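import Mathlib
import Cfsg.Agent.S3904

set_option autoImplicit false
open Cfsg

/-!
# Normal subgroups all of whose noncentral elements have maximal centralizers: basic facts
-/

namespace Cfsg.Agent.Lib.MaxCent

open scoped Pointwise

variable {G : Type*} [Group G] [Finite G]

local notation "C" x => Subgroup.centralizer ({x} : Set G)

/-- `Z(N)` as a subgroup of `G`. -/
def Zn (N : Subgroup G) : Subgroup G := Subgroup.centralizer (N : Set G) ⊓ N

/-- `C_N(x)` as a subgroup of `G`. -/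
def Lx (N : Subgroup G) (x : G) : Subgroup G := (C x) ⊓ N

/-- The hypothesis of the theorem. -/
abbrev HMax (N : Subgroup G) : Prop :=
  ∀ x : G, x ∈ N → x ∉ Subgroup.centralizer (N : Set G) → IsCoatom (C x)

theorem mem_C' {g x : G} : g ∈ (C x) ↔ g * x = x * g := Subgroup.mem_centralizer_singleton_iff

theorem mem_C_comm' {g x : G} : g ∈ (C x) ↔ x ∈ (C g) := by
  rw [mem_C', mem_C']; exact ⟨fun h => h.symm, fun h => h.symm⟩

theorem mem_Zn {N : Subgroup G} {z : G} : z ∈ Zn N ↔ z ∈ N ∧ ∀ n ∈ N, n * z = z * n := by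
  rw [Zn, Subgroup.mem_inf, Subgroup.mem_centralizer_iff]
  exact ⟨fun h => ⟨h.2, fun n hn => h.1 n hn⟩, fun h => ⟨fun n hn => h.2 n hn, h.1⟩⟩

theorem mem_Lx {N : Subgroup G} {x y : G} : y ∈ Lx N x ↔ y * x = x * y ∧ y ∈ N := by
  rw [Lx, Subgroup.mem_inf, mem_C']

theorem Zn_le (N : Subgroup G) : Zn N ≤ N := inf_le_right

theorem Zn_le_Lx {N : Subgroup G} {x : G} (hx : x ∈ N) : Zn N ≤ Lx N x := by
  intro z hz
  rw [mem_Zn] at hz
  rw [mem_Lx]
  exact ⟨(hz.2 x hx).symm, hz.1⟩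

theorem notMem_centralizer {N : Subgroup G} {x : G} (hx : x ∈ N) (hxZ : x ∉ Zn N) :
    x ∉ Subgroup.centralizer (N : Set G) := fun h => hxZ ⟨h, hx⟩

instance Zn_normal (N : Subgroup G) [N.Normal] : (Zn N).Normal := by
  unfold Zn
  infer_instance

theorem coatom {N : Subgroup G} (h : HMax N) {x : G} (hx : x ∈ N) (hxZ : x ∉ Zn N) :
    IsCoatom (C x) := h x hx (notMem_centralizer hx hxZ)

theorem C_eq_of_le' {N : Subgroup G} (h : HMax N) {x y : G} (hx : x ∈ N) (hxZ : x ∉ Zn N)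
    (hy : y ∈ N) (hyZ : y ∉ Zn N) (hle : (C x) ≤ (C y)) : (C x) = (C y) := by
  by_contra hne
  exact (coatom h hy hyZ).1 ((coatom h hx hxZ).2 _ (lt_of_le_of_ne hle hne))

/-- Commuting noncentral elements of coprime orders have the same centralizer. -/
theorem C_eq_of_coprime' {N : Subgroup G} (h : HMax N) {u v : G} (hu : u ∈ N) (huZ : u ∉ Zn N)
    (hv : v ∈ N) (hvZ : v ∉ Zn N)
    (huv : Commute u v) (hcop : (orderOf u).Coprime (orderOf v)) : (C u) = (C v) := by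
  have hcopz : IsCoprime ((orderOf u : ℕ) : ℤ) ((orderOf v : ℕ) : ℤ) := Nat.isCoprime_iff_coprime.mpr hcop
  obtain ⟨s, t, hst⟩ := hcopz
  have hu1 : u ^ (s * (orderOf u : ℤ)) = 1 := by
    rw [mul_comm, zpow_mul, zpow_natCast, pow_orderOf_eq_one, one_zpow]
  have hv1 : v ^ (t * (orderOf v : ℤ)) = 1 := by
    rw [mul_comm, zpow_mul, zpow_natCast, pow_orderOf_eq_one, one_zpow]
  have hu' : u ∈ Subgroup.zpowers (u * v) := by
    have e : (u * v) ^ (t * (orderOf v : ℤ)) = u := by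
      rw [huv.mul_zpow, hv1, mul_one]
      have : t * (orderOf v : ℤ) = 1 - s * (orderOf u : ℤ) := by linarith
      rw [this, zpow_sub, zpow_one, hu1, inv_one, mul_one]
    have h3 := Subgroup.zpow_mem_zpowers (u * v) (t * (orderOf v : ℤ))
    rwa [e] at h3
  have hv' : v ∈ Subgroup.zpowers (u * v) := by
    have e : (u * v) ^ (s * (orderOf u : ℤ)) = v := by
      rw [huv.mul_zpow, hu1, one_mul]
      have : s * (orderOf u : ℤ) = 1 - t * (orderOf v : ℤ) := by linarith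
      rw [this, zpow_sub, zpow_one, hv1, inv_one, mul_one]
    have h3 := Subgroup.zpow_mem_zpowers (u * v) (s * (orderOf u : ℤ))
    rwa [e] at h3
  have h1 := S4314.C_le_of_mem_zpowers hu'
  have h2 := S4314.C_le_of_mem_zpowers hv'
  have huvN : u * v ∈ N := N.mul_mem hu hv
  have huvZ : u * v ∉ Zn N := by
    intro hz
    exact huZ ((Subgroup.zpowers_le.mpr hz) hu')
  rw [← C_eq_of_le' h huvN huvZ hu huZ h1, ← C_eq_of_le' h huvN huvZ hv hvZ h2]

/-- Commuting noncentral elements of coprime orders have abelian `C_N`. -/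
theorem mulComm_of_coprime' {N : Subgroup G} (h : HMax N) {u v : G} (hu : u ∈ N) (huZ : u ∉ Zn N)
    (hv : v ∈ N) (hvZ : v ∉ Zn N) (huv : Commute u v) (hcop : (orderOf u).Coprime (orderOf v)) :
    ∀ a ∈ Lx N u, ∀ b ∈ Lx N u, a * b = b * a := by
  have hEq := C_eq_of_coprime' h hu huZ hv hvZ huv hcop
  intro w hw m hm
  have hwC : w ∈ (C u) := hw.1
  have hwN : w ∈ N := hw.2
  have hmC : m ∈ (C u) := hm.1
  have hmN : m ∈ N := hm.2
  have : w ∈ (C m) := by
    apply S3904.mem_of_primary_powers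
    intro a ha r hr ⟨k, hk⟩
    have haN : a ∈ N := (Subgroup.zpowers_le.mpr hwN) ha
    by_cases haZ : a ∈ Zn N
    · rw [mem_C']
      exact ((mem_Zn.mp haZ).2 m hmN).symm
    have haM : a ∈ (C u) := (Subgroup.zpowers_le.mpr hwC) ha
    rw [mem_C_comm']
    by_cases hru : r ∣ orderOf u
    · have hrv : (orderOf a).Coprime (orderOf v) := by
        have hrv' : ¬ r ∣ orderOf v := fun hrv =>
          hr.one_lt.ne' (Nat.eq_one_of_dvd_coprimes hcop hru hrv)
        have h1 : (r ^ k).Coprime (orderOf v) :=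
          Nat.Coprime.pow_left k ((Nat.Prime.coprime_iff_not_dvd hr).mpr hrv')
        exact Nat.Coprime.coprime_dvd_left (orderOf_dvd_of_pow_eq_one hk) h1
      have hcomm : Commute a v := by
        have : a ∈ (C v) := hEq ▸ haM
        exact mem_C'.mp this
      have := C_eq_of_coprime' h haN haZ hv hvZ hcomm hrv
      rw [this, ← hEq]; exact hmC
    · have hrv : (orderOf a).Coprime (orderOf u) := by
        have h1 : (r ^ k).Coprime (orderOf u) :=
          Nat.Coprime.pow_left k ((Nat.Prime.coprime_iff_not_dvd hr).mpr hru)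
        exact Nat.Coprime.coprime_dvd_left (orderOf_dvd_of_pow_eq_one hk) h1
      have hcomm : Commute a u := mem_C'.mp haM
      have := C_eq_of_coprime' h haN haZ hu huZ hcomm hrv
      rw [this]; exact hmC
  exact (mem_C'.mp this)

/-- A noncentral element has a noncentral primary power with the same centralizer. -/
theorem exists_primary' {N : Subgroup G} (h : HMax N) {x : G} (hx : x ∈ N) (hxZ : x ∉ Zn N) :
    ∃ y ∈ Subgroup.zpowers x, y ∉ Zn N ∧ (C x) = (C y) ∧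
      ∃ t : ℕ, t.Prime ∧ ∃ i : ℕ, y ^ (t ^ i) = 1 := by
  by_contra hno
  apply hxZ
  apply S3904.mem_of_primary_powers
  intro a ha r hr ⟨k, hk⟩
  by_contra haZ
  have haN : a ∈ N := (Subgroup.zpowers_le.mpr hx) ha
  exact hno ⟨a, ha, haZ, C_eq_of_le' h hx hxZ haN haZ (S4314.C_le_of_mem_zpowers ha), r, hr, k, hk⟩

/-- If `L_v` is nonabelian, `v` an `r`-element, `L_v/Z(N)` is an `r`-group. -/
theorem Lx_prime_power_part {N : Subgroup G} (h : HMax N)
    {v : G} (hv : v ∈ N) (hvZ : v ∉ Zn N) (hnab : ¬ ∀ a ∈ Lx N v, ∀ b ∈ Lx N v, a * b = b * a)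
    {r k : ℕ} (hr : r.Prime) (hvk : v ^ (r ^ k) = 1) :
    ∀ w ∈ Lx N v, ∃ j : ℕ, w ^ (r ^ j) ∈ Zn N := by
  intro w hw
  haveI : Fact r.Prime := ⟨hr⟩
  obtain ⟨a, b, hab, ha, hb, ⟨j, hj⟩, hbc⟩ := S4314.exists_decomp w r
  have hzle : Subgroup.zpowers w ≤ Lx N v := Subgroup.zpowers_le.mpr hw
  have hbZ : b ∈ Zn N := by
    apply S3904.mem_of_primary_powers
    intro c hc s hs ⟨i, hi⟩
    by_contra hcZ
    have hcb : orderOf c ∣ orderOf b := orderOf_dvd_of_mem_zpowers hc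
    have hcs : orderOf c ∣ s ^ i := orderOf_dvd_of_pow_eq_one hi
    have hvr : orderOf v ∣ r ^ k := orderOf_dvd_of_pow_eq_one hvk
    by_cases hsr : s = r
    · subst hsr
      have h1 : (orderOf b).Coprime (s ^ i) := Nat.Coprime.pow_right i hbc
      have h2 := Nat.eq_one_of_dvd_coprimes h1 hcb hcs
      rw [orderOf_eq_one_iff] at h2
      rw [h2] at hcZ
      exact hcZ (Subgroup.one_mem _)
    · have h1 : (s ^ i).Coprime (r ^ k) :=
        Nat.Coprime.pow _ _ ((Nat.coprime_primes hs hr).mpr hsr)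
      have h2 : (orderOf c).Coprime (orderOf v) := Nat.Coprime.of_dvd hcs hvr h1
      have hcL : c ∈ Lx N v := hzle ((Subgroup.zpowers_le.mpr hb) hc)
      have hcomm : Commute c v := mem_C'.mp hcL.1
      apply hnab
      have := mulComm_of_coprime' h hcL.2 hcZ hv hvZ hcomm h2
      have hCeq := C_eq_of_coprime' h hcL.2 hcZ hv hvZ hcomm h2
      have hL : Lx N v = Lx N c := by rw [Lx, Lx, hCeq]
      rw [hL]
      exact this
  refine ⟨j, ?_⟩
  have hcomm : Commute a b := by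
    obtain ⟨m, rfl⟩ := Subgroup.mem_zpowers_iff.mp ha
    obtain ⟨n, rfl⟩ := Subgroup.mem_zpowers_iff.mp hb
    exact (Commute.refl w).zpow_zpow _ _
  rw [hab, hcomm.mul_pow, orderOf_dvd_iff_pow_eq_one.mp hj, one_mul]
  exact Subgroup.pow_mem _ hbZ _

/-! ### Normal or self-normalizing -/

theorem conj_mem_Lx {N : Subgroup G} [hN : N.Normal] {x y g : G} (hy : y ∈ Lx N x) :
    g * y * g⁻¹ ∈ Lx N (g * x * g⁻¹) := by
  rw [mem_Lx] at hy ⊢
  refine ⟨?_, hN.conj_mem _ hy.2 g⟩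
  calc g * y * g⁻¹ * (g * x * g⁻¹) = g * (y * x) * g⁻¹ := by group
    _ = g * (x * y) * g⁻¹ := by rw [hy.1]
    _ = g * x * g⁻¹ * (g * y * g⁻¹) := by group

theorem conj_notMem_Zn {N : Subgroup G} [hN : N.Normal] {x : G} (hx : x ∉ Zn N) (g : G) :
    g * x * g⁻¹ ∉ Zn N := by
  intro h
  apply hx
  have := (Zn_normal N).conj_mem _ h g⁻¹
  simpa [mul_assoc] using this

/-- `C x` normalizes `L_x`. -/
theorem C_le_normalizer {N : Subgroup G} [hN : N.Normal] (x : G) :
    (C x) ≤ Subgroup.normalizer (Lx N x : Set G) := by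
  intro m hm
  rw [Subgroup.mem_normalizer_iff]
  intro y
  have hm' := mem_C'.mp hm
  have hconj : m * x * m⁻¹ = x := by rw [hm']; group
  constructor
  · intro hy
    have := conj_mem_Lx (N := N) (x := x) (y := y) (g := m) hy
    rwa [hconj] at this
  · intro hy
    have hm2 : m⁻¹ * x * m⁻¹⁻¹ = x := by
      have : m⁻¹ * (m * x * m⁻¹) * m = m⁻¹ * x * m := by rw [hconj]
      rw [inv_inv, ← this]; group
    have := conj_mem_Lx (N := N) (x := x) (y := m * y * m⁻¹) (g := m⁻¹) hy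
    rw [hm2] at this
    simpa [mul_assoc] using this

/-- Type II: `L_x` is self-normalizing in `N`. -/
theorem self_norm {N : Subgroup G} [hN : N.Normal] (h : HMax N) {x : G} (hx : x ∈ N) (hxZ : x ∉ Zn N)
    (hnn : ¬ (Lx N x).Normal) {n : G} (hn : n ∈ N) (hnn' : n ∈ Subgroup.normalizer (Lx N x : Set G)) :
    n ∈ Lx N x := by
  by_contra hnL
  have hnC : n ∉ (C x) := fun hc => hnL ⟨hc, hn⟩
  have hlt : (C x) < Subgroup.normalizer (Lx N x : Set G) :=
    lt_of_le_of_ne (C_le_normalizer x) (fun he => hnC (by rw [he]; exact hnn'))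
  have htop := (coatom h hx hxZ).2 _ hlt
  exact hnn (Subgroup.normalizer_eq_top_iff.mp htop)

/-- Any element normalizing `L_x` elementwise: a handy criterion. -/
theorem mem_normalizer_of {L : Subgroup G} {n : G} (hn : ∀ y ∈ L, n * y * n⁻¹ ∈ L) :
    n ∈ Subgroup.normalizer (L : Set G) := by
  classical
  have : MulAut.conj n • L = L := by
    apply Subgroup.eq_of_le_of_card_ge
    · intro w hw
      rw [Cfsg.Agent.Lib.Solvable.FrobQuot.mem_conj_smul_iff'] at hw
      have := hn _ hw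
      simpa [mul_assoc] using this
    · exact (Nat.card_congr (Subgroup.equivSMul (MulAut.conj n) L).toEquiv).le
  rw [Subgroup.mem_normalizer_iff]
  intro y
  constructor
  · intro hy; exact hn y hy
  · intro hy
    rw [← this, Cfsg.Agent.Lib.Solvable.FrobQuot.mem_conj_smul_iff'] at hy
    simpa [mul_assoc] using hy

/-- Type I elements sit in an abelian normal subgroup. -/
theorem exists_abelian_normal {N : Subgroup G} [hN : N.Normal] {x : G} (hx : x ∈ N)
    (hI : (Lx N x).Normal) :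
    ∃ X : Subgroup G, X.Normal ∧ X ≤ N ∧ x ∈ X ∧ ∀ a ∈ X, ∀ b ∈ X, a * b = b * a := by
  refine ⟨Subgroup.centralizer (Lx N x : Set G) ⊓ Lx N x, inferInstance, ?_, ?_, ?_⟩
  · exact fun a ha => ha.2.2
  · refine Subgroup.mem_inf.mpr ⟨Subgroup.mem_centralizer_iff.mpr ?_, ?_⟩
    · intro y hy
      exact ((mem_Lx.mp hy).1)
    · exact mem_Lx.mpr ⟨rfl, hx⟩
  · intro a ha b hb
    exact ((Subgroup.mem_centralizer_iff.mp ha.1) b hb.2).symm

/-- Factorization of `G`. -/
theorem G_factor {N : Subgroup G} (h : HMax N) {x : G} (hx : x ∈ N) (hxZ : x ∉ Zn N)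
    {T : Subgroup G} [hT : T.Normal] (hTC : ¬ T ≤ (C x)) (g : G) :
    ∃ m ∈ (C x), ∃ t ∈ T, g = m * t := by
  have htop : (C x) ⊔ T = ⊤ := by
    apply (coatom h hx hxZ).2
    apply lt_of_le_of_ne le_sup_left
    intro he
    apply hTC
    rw [he]
    exact le_sup_right
  have hg : g ∈ (((C x) ⊔ T : Subgroup G) : Set G) := by rw [htop]; trivial
  rw [Subgroup.mul_normal] at hg
  obtain ⟨m, hm, t, ht, e⟩ := Set.mem_mul.mp hg
  exact ⟨m, hm, t, ht, e.symm⟩

/-- Factorization of `N`. -/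
theorem N_factor {N : Subgroup G} (h : HMax N) {x : G} (hx : x ∈ N) (hxZ : x ∉ Zn N)
    {T : Subgroup G} [hT : T.Normal] (hTN : T ≤ N) (hTC : ¬ T ≤ (C x)) {n : G} (hn : n ∈ N) :
    ∃ l ∈ Lx N x, ∃ t ∈ T, n = l * t := by
  obtain ⟨m, hm, t, ht, e⟩ := G_factor h hx hxZ hTC n
  refine ⟨m, ⟨hm, ?_⟩, t, ht, e⟩
  have : m = n * t⁻¹ := by rw [e]; group
  rw [this]
  exact N.mul_mem hn (N.inv_mem (hTN ht))

/-- Class at most 2 from many type I elements. -/
theorem comm_central {N : Subgroup G} [hN : N.Normal] (h : HMax N) {Y : Subgroup G} {y₀ : G}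
    (hy₀ : y₀ ∈ N) (hy₀Y : y₀ ∉ Y) (hZY : Zn N ≤ Y)
    (hI : ∀ c ∈ N, c ∉ Y → (Lx N c).Normal) {a b : G} (ha : a ∈ N) (hb : b ∈ N) :
    a * b * a⁻¹ * b⁻¹ ∈ Zn N := by
  have key : ∀ c ∈ N, c ∉ Y → a * b * a⁻¹ * b⁻¹ ∈ Lx N c := by
    intro c hc hcY
    have hcZ : c ∉ Zn N := fun hz => hcY (hZY hz)
    haveI hLn := hI c hc hcY
    have hs : ∃ s ∈ N, s ∉ Y ∧ s ∉ Lx N c := by
      by_contra hno
      push Not at hno
      apply hcZ
      refine mem_Zn.mpr ⟨hc, ?_⟩
      intro n hn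
      have hnL : n ∈ Lx N c := by
        by_cases hnY : n ∈ Y
        · have h1 : n * y₀ ∉ Y := fun h2 => hy₀Y (by
            have := Y.mul_mem (Y.inv_mem hnY) h2
            simpa using this)
          have h2 := hno _ (N.mul_mem hn hy₀) h1
          have h3 := hno _ hy₀ hy₀Y
          have := (Lx N c).mul_mem h2 ((Lx N c).inv_mem h3)
          simpa using this
        · exact hno n hn hnY
      exact (mem_Lx.mp hnL).1
    obtain ⟨s, hsN, hsY, hsL⟩ := hs
    obtain ⟨X, hXn, hXN, hsX, hXab⟩ := exists_abelian_normal hsN (hI s hsN hsY)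
    haveI := hXn
    have hXC : ¬ X ≤ (C c) := fun hle => hsL ⟨hle hsX, hsN⟩
    obtain ⟨l1, hl1, t1, ht1, e1⟩ := N_factor h hc hcZ hXN hXC ha
    obtain ⟨l2, hl2, t2, ht2, e2⟩ := N_factor h hc hcZ hXN hXC hb
    have hker : ∀ g : G, QuotientGroup.mk' (Lx N c) g = 1 ↔ g ∈ Lx N c := by
      intro g
      rw [← MonoidHom.mem_ker, QuotientGroup.ker_mk']
    rw [← hker]
    have h1 := (hker l1).mpr hl1
    have h2 := (hker l2).mpr hl2
    simp only [map_mul, map_inv]
    have h3 : QuotientGroup.mk' (Lx N c) a = QuotientGroup.mk' (Lx N c) t1 := by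
      rw [e1, map_mul, h1, one_mul]
    have h4 : QuotientGroup.mk' (Lx N c) b = QuotientGroup.mk' (Lx N c) t2 := by
      rw [e2, map_mul, h2, one_mul]
    have h5 : QuotientGroup.mk' (Lx N c) t1 * QuotientGroup.mk' (Lx N c) t2 =
        QuotientGroup.mk' (Lx N c) t2 * QuotientGroup.mk' (Lx N c) t1 := by
      rw [← map_mul, ← map_mul, hXab t1 ht1 t2 ht2]
    rw [h3, h4, h5]
    group
  refine mem_Zn.mpr ⟨N.mul_mem (N.mul_mem (N.mul_mem ha hb) (N.inv_mem ha)) (N.inv_mem hb), ?_⟩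
  intro n hn
  set w := a * b * a⁻¹ * b⁻¹ with hw
  have hc : ∀ c ∈ N, c ∉ Y → c * w = w * c := fun c hc hcY => ((mem_Lx.mp (key c hc hcY)).1).symm
  by_cases hnY : n ∈ Y
  · have h1 : n * y₀ ∉ Y := fun h2 => hy₀Y (by
      have := Y.mul_mem (Y.inv_mem hnY) h2
      simpa using this)
    have h2 := hc _ (N.mul_mem hn hy₀) h1
    have h3 := hc y₀ hy₀ hy₀Y
    apply mul_right_cancel (b := y₀)
    calc n * w * y₀ = n * (w * y₀) := by group
      _ = n * (y₀ * w) := by rw [h3]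
      _ = n * y₀ * w := by group
      _ = w * (n * y₀) := h2
      _ = w * n * y₀ := by group
  · exact hc n hn hnY

theorem normal_of_comm {N : Subgroup G} [hN : N.Normal] (h : HMax N)
    (hcomm : ∀ a ∈ N, ∀ b ∈ N, a * b * a⁻¹ * b⁻¹ ∈ Zn N) {x : G} (hx : x ∈ N) (hxZ : x ∉ Zn N) :
    (Lx N x).Normal := by
  by_contra hnn
  have hall : ∀ n ∈ N, n ∈ Lx N x := by
    intro n hn
    refine self_norm h hx hxZ hnn hn (mem_normalizer_of ?_)
    intro y hy
    have h1 := Zn_le_Lx hx (hcomm n hn y hy.2)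
    have h2 := (Lx N x).mul_mem h1 hy
    simpa using h2
  apply hxZ
  exact mem_Zn.mpr ⟨hx, fun n hn => (mem_Lx.mp (hall n hn)).1⟩

theorem comm_pow_both {g h c : G} (hcg : c * g = g * c) (hch : c * h = h * c)
    (h0 : g * h = c * (h * g)) (k : ℕ) :
    g ^ k * h = c ^ k * (h * g ^ k) ∧ g * h ^ k = c ^ k * (h ^ k * g) := by
  have hck : ∀ k : ℕ, c ^ k * h = h * c ^ k := fun k => ((Commute.pow_left hch k))
  have hcgk : ∀ k : ℕ, c ^ k * g = g * c ^ k := fun k => ((Commute.pow_left hcg k))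
  have hgc : ∀ k : ℕ, g ^ k * c = c * g ^ k := fun k => ((Commute.pow_left hcg.symm k))
  have hhc : ∀ k : ℕ, h ^ k * c = c * h ^ k := fun k => ((Commute.pow_left hch.symm k))
  induction k with
  | zero => simp
  | succ k ih =>
    constructor
    · calc g ^ (k + 1) * h = g ^ k * (g * h) := by rw [pow_succ]; group
        _ = g ^ k * (c * (h * g)) := by rw [h0]
        _ = (g ^ k * c) * (h * g) := by group
        _ = (c * g ^ k) * (h * g) := by rw [hgc]
        _ = c * ((g ^ k * h) * g) := by group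
        _ = c * ((c ^ k * (h * g ^ k)) * g) := by rw [ih.1]
        _ = (c * c ^ k) * (h * (g ^ k * g)) := by group
        _ = c ^ (k + 1) * (h * g ^ (k + 1)) := by rw [pow_succ' c, pow_succ g]
    · calc g * h ^ (k + 1) = (g * h ^ k) * h := by rw [pow_succ]; group
        _ = (c ^ k * (h ^ k * g)) * h := by rw [ih.2]
        _ = c ^ k * (h ^ k * (g * h)) := by group
        _ = c ^ k * (h ^ k * (c * (h * g))) := by rw [h0]
        _ = c ^ k * ((h ^ k * c) * (h * g)) := by group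
        _ = c ^ k * ((c * h ^ k) * (h * g)) := by rw [hhc]
        _ = (c ^ k * c) * (h ^ k * h * g) := by group
        _ = c ^ (k + 1) * (h ^ (k + 1) * g) := by rw [pow_succ c, pow_succ h]

/-- With `N' ≤ Z(N)`: every noncentral element has a prime power central. -/
theorem prime_pow_mem {N : Subgroup G} [hN : N.Normal] (h : HMax N)
    (hcomm : ∀ a ∈ N, ∀ b ∈ N, a * b * a⁻¹ * b⁻¹ ∈ Zn N) {x : G} (hx : x ∈ N) (hxZ : x ∉ Zn N) :
    ∃ r : ℕ, r.Prime ∧ x ^ r ∈ Zn N := by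
  haveI hLn : (Lx N x).Normal := normal_of_comm h hcomm hx hxZ
  set L := Lx N x with hL
  set π := QuotientGroup.mk' L with hπ
  have hker : ∀ g : G, π g = 1 ↔ g ∈ L := by
    intro g
    rw [← MonoidHom.mem_ker, hπ, QuotientGroup.ker_mk']
  -- some `a₀ ∉ L`
  have hex : ∃ a₀ ∈ N, a₀ ∉ L := by
    by_contra hno
    push Not at hno
    exact hxZ (mem_Zn.mpr ⟨hx, fun n hn => (mem_Lx.mp (hno n hn)).1⟩)
  obtain ⟨a₀, ha₀, ha₀L⟩ := hex
  have hy : π a₀ ≠ 1 := fun h1 => ha₀L ((hker _).mp h1)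
  have hord : orderOf (π a₀) ≠ 1 := by rwa [Ne, orderOf_eq_one_iff]
  set r := (orderOf (π a₀)).minFac with hr
  have hrp : r.Prime := Nat.minFac_prime hord
  set b₀ := a₀ ^ (orderOf (π a₀) / r) with hb₀
  have hb₀N : b₀ ∈ N := N.pow_mem ha₀ _
  have hb₀L : b₀ ∉ L := by
    intro hmem
    have h1 := (hker _).mpr hmem
    rw [hb₀, map_pow] at h1
    have h2 := orderOf_pow_orderOf_div (x := π a₀) (orderOf_pos _).ne' (Nat.minFac_dvd _)
    rw [← hr, h1, orderOf_one] at h2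
    exact hrp.one_lt.ne h2
  have hb₀r : b₀ ^ r ∈ L := by
    rw [← hker, hb₀, ← pow_mul, Nat.div_mul_cancel (Nat.minFac_dvd _), map_pow, pow_orderOf_eq_one]
  have hcommπ : ∀ a ∈ N, ∀ b ∈ N, π a * π b = π b * π a := by
    intro a ha b hb
    have h1 := (hker _).mpr (Zn_le_Lx hx (hcomm a ha b hb))
    simp only [map_mul, map_inv] at h1
    calc π a * π b = (π a * π b * (π a)⁻¹ * (π b)⁻¹) * (π b * π a) := by group
      _ = π b * π a := by rw [h1, one_mul]
  let Ω : Subgroup G :=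
    { carrier := {a | a ∈ N ∧ a ^ r ∈ L}
      mul_mem' := by
        rintro a b ⟨ha, ha2⟩ ⟨hb, hb2⟩
        refine ⟨N.mul_mem ha hb, ?_⟩
        rw [← hker, map_pow, map_mul, (show Commute (π a) (π b) from hcommπ a ha b hb).mul_pow,
          ← map_pow, ← map_pow, (hker _).mpr ha2, (hker _).mpr hb2, one_mul]
      one_mem' := ⟨N.one_mem, by rw [one_pow]; exact L.one_mem⟩
      inv_mem' := by
        rintro a ⟨ha, ha2⟩
        refine ⟨N.inv_mem ha, ?_⟩
        rw [inv_pow]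
        exact L.inv_mem ha2 }
  have hΩmem : ∀ a, a ∈ Ω ↔ a ∈ N ∧ a ^ r ∈ L := fun a => Iff.rfl
  haveI hΩn : Ω.Normal := by
    constructor
    intro a ha g
    rw [hΩmem] at ha ⊢
    refine ⟨hN.conj_mem _ ha.1 g, ?_⟩
    rw [conj_pow]
    exact hLn.conj_mem _ ha.2 g
  have hΩC : ¬ Ω ≤ (C x) := by
    intro hle
    exact hb₀L ⟨hle ((hΩmem _).mpr ⟨hb₀N, hb₀r⟩), hb₀N⟩
  have hall : ∀ n ∈ N, n ^ r ∈ L := by
    intro n hn
    obtain ⟨l, hl, t, ht, e⟩ := N_factor h hx hxZ (T := Ω) (fun a ha => ha.1) hΩC hn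
    rw [← hker, e, map_pow, map_mul, (hker l).mpr hl, one_mul, ← map_pow]
    exact (hker _).mpr ht.2
  refine ⟨r, hrp, mem_Zn.mpr ⟨N.pow_mem hx _, ?_⟩⟩
  intro n hn
  set c := n * x * n⁻¹ * x⁻¹ with hc
  have hcZ : c ∈ Zn N := hcomm n hn x hx
  have hcn : c * n = n * c := ((mem_Zn.mp hcZ).2 n hn).symm
  have hcx : c * x = x * c := ((mem_Zn.mp hcZ).2 x hx).symm
  have h0 : n * x = c * (x * n) := by rw [hc]; group
  obtain ⟨h1, h2⟩ := comm_pow_both hcn hcx h0 r
  have h3 : n ^ r * x = x * n ^ r := (mem_Lx.mp (hall n hn)).1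
  have h4 : c ^ r = 1 := by
    have h5 : c ^ r * (x * n ^ r) = 1 * (x * n ^ r) := by
      rw [← h1, h3, one_mul]
    exact mul_right_cancel h5
  rw [h2, h4, one_mul]

theorem mk_eq_one_iff {N : Subgroup G} (a : ↥N) :
    QuotientGroup.mk' (Subgroup.center ↥N) a = 1 ↔ (a : G) ∈ Zn N := by
  rw [← MonoidHom.mem_ker, QuotientGroup.ker_mk', Subgroup.mem_center_iff, mem_Zn]
  constructor
  · intro h
    refine ⟨a.2, fun n hn => ?_⟩
    have := h ⟨n, hn⟩
    exact congrArg Subtype.val this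
  · intro h g
    exact Subtype.ext (h.2 g g.2)

/-- The first alternative. -/
theorem alt1 {N : Subgroup G} [hN : N.Normal] (h : HMax N)
    (hcomm : ∀ a ∈ N, ∀ b ∈ N, a * b * a⁻¹ * b⁻¹ ∈ Zn N) :
    ∃ p : ℕ, p.Prime ∧ Cfsg.IsElementaryAbelian p (⊤ : Subgroup (↥N ⧸ Subgroup.center ↥N)) := by
  set π := QuotientGroup.mk' (Subgroup.center ↥N) with hπ
  have hsurj : Function.Surjective π := QuotientGroup.mk'_surjective _
  have hQcomm : ∀ a b : ↥N ⧸ Subgroup.center ↥N, a * b = b * a := by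
    intro a b
    obtain ⟨g, rfl⟩ := hsurj a
    obtain ⟨k, rfl⟩ := hsurj b
    have h1 : π (g * k * g⁻¹ * k⁻¹) = 1 := (mk_eq_one_iff _).mpr (hcomm g g.2 k k.2)
    simp only [map_mul, map_inv] at h1
    calc π g * π k = (π g * π k * (π g)⁻¹ * (π k)⁻¹) * (π k * π g) := by group
      _ = π k * π g := by rw [h1, one_mul]
  have hprime : ∀ y : ↥N ⧸ Subgroup.center ↥N, y ≠ 1 → (orderOf y).Prime := by
    intro y hy
    obtain ⟨g, rfl⟩ := hsurj y
    have hg : (g : G) ∉ Zn N := fun h1 => hy ((mk_eq_one_iff _).mpr h1)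
    obtain ⟨r, hr, hrm⟩ := prime_pow_mem h hcomm g.2 hg
    haveI : Fact r.Prime := ⟨hr⟩
    have h1 : (π g) ^ r = 1 := by
      rw [← map_pow]
      exact (mk_eq_one_iff _).mpr (by simpa using hrm)
    rw [orderOf_eq_prime h1 hy]; exact hr
  by_cases htriv : ∀ y : ↥N ⧸ Subgroup.center ↥N, y = 1
  · refine ⟨2, Nat.prime_two, ⟨⟨fun a b => Subtype.ext (hQcomm _ _)⟩⟩, ?_⟩
    intro y _
    rw [htriv y, one_pow]
  push Not at htriv
  obtain ⟨y₀, hy₀⟩ := htriv
  refine ⟨orderOf y₀, hprime _ hy₀, ⟨⟨fun a b => Subtype.ext (hQcomm _ _)⟩⟩, ?_⟩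
  intro y _
  by_cases hy1 : y = 1
  · rw [hy1, one_pow]
  have hq := hprime y hy1
  have hp := hprime _ hy₀
  by_cases heq : orderOf y = orderOf y₀
  · rw [← heq]; exact pow_orderOf_eq_one y
  exfalso
  have hcop : (orderOf y).Coprime (orderOf y₀) := (Nat.coprime_primes hq hp).mpr heq
  have h2 : orderOf (y * y₀) = orderOf y * orderOf y₀ :=
    Commute.orderOf_mul_eq_mul_orderOf_of_coprime (hQcomm _ _) hcop
  have hne1 : y * y₀ ≠ 1 := by
    intro h3
    rw [h3, orderOf_one] at h2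
    have := Nat.eq_one_of_mul_eq_one_right h2.symm
    exact hq.one_lt.ne' this
  have h3 := hprime _ hne1
  rw [h2] at h3
  exact Nat.not_prime_mul hq.one_lt.ne' hp.one_lt.ne' h3

/-- If some noncentral element is central modulo `Z(N)` (the center of `N/Z(N)` is nontrivial),
the first alternative holds. -/
theorem alt1_of_Z2 {N : Subgroup G} [hN : N.Normal] (h : HMax N) {x : G} (hx : x ∈ N) (hxZ : x ∉ Zn N)
    (hxc : ∀ a ∈ N, a * x * a⁻¹ * x⁻¹ ∈ Zn N) :
    ∃ p : ℕ, p.Prime ∧ Cfsg.IsElementaryAbelian p (⊤ : Subgroup (↥N ⧸ Subgroup.center ↥N)) := by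
  apply alt1 h
  have hex : ∃ y₀ ∈ N, y₀ ∉ Lx N x := by
    by_contra hno
    push Not at hno
    exact hxZ (mem_Zn.mpr ⟨hx, fun n hn => (mem_Lx.mp (hno n hn)).1⟩)
  obtain ⟨y₀, hy₀, hy₀L⟩ := hex
  intro a ha b hb
  refine comm_central h hy₀ hy₀L (Zn_le_Lx hx) ?_ ha hb
  intro c hc hcL
  by_contra hnn
  have hcZ : c ∉ Zn N := fun hz => hcL (Zn_le_Lx hx hz)
  -- `x` normalizes `L_c`
  have h1 : x ∈ Lx N c := by
    refine self_norm h hc hcZ hnn hx (mem_normalizer_of ?_)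
    intro y hy
    have h2 := (Lx N c).mul_mem ((Lx N c).inv_mem (Zn_le_Lx hc (hxc y hy.2))) hy
    have e : (y * x * y⁻¹ * x⁻¹)⁻¹ * y = x * y * x⁻¹ := by group
    rwa [e] at h2
  exact hcL ⟨mem_C_comm'.mp h1.1, hc⟩

end Cfsg.Agent.Lib.MaxCent
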