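import Mathlib
import Cfsg.Agent.Lib.MaxCent.Basic

set_option autoImplicit false
open Cfsg

/-!
# Fixed points of `p`-elements on a normal section, and the context of the abelian chief factor
-/

namespace Cfsg.Agent.Lib.MaxCent

open scoped Pointwise

variable {G : Type*} [Group G] [Finite G]

local notation "C" x => Subgroup.centralizer ({x} : Set G)

theorem mem_of_pow_mem_of_coprime {T : Subgroup G} {b : G} {k : ℕ} (hcop : (orderOf b).Coprime k)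
    (hb : b ^ k ∈ T) : b ∈ T := by
  obtain ⟨u, v, huv⟩ := Nat.isCoprime_iff_coprime.mpr hcop
  have : b = (b ^ k) ^ v := by
    calc b = b ^ (u * (orderOf b : ℤ) + v * (k : ℤ)) := by rw [huv, zpow_one]
      _ = (b ^ k) ^ v := by
        rw [zpow_add, mul_comm u, zpow_mul, zpow_natCast, pow_orderOf_eq_one, one_zpow, one_mul,
          mul_comm v, zpow_mul, zpow_natCast]
  rw [this]; exact T.zpow_mem hb v

theorem coprime_of_primary {a n : G} {p s k i : ℕ} (hp : p.Prime) (hs : s.Prime) (hsp : s ≠ p)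
    (ha : a ^ (p ^ k) = 1) (hn : n ^ (s ^ i) = 1) : (orderOf a).Coprime (orderOf n) := by
  have h1 : (p ^ k).Coprime (s ^ i) := Nat.Coprime.pow _ _ ((Nat.coprime_primes hp hs).mpr hsp.symm)
  exact Nat.Coprime.of_dvd (orderOf_dvd_of_pow_eq_one ha) (orderOf_dvd_of_pow_eq_one hn) h1

/-- Fixed points for a group acting as `p`-elements on a nontrivial normal `p`-section. -/
theorem exists_fixed (p : ℕ) [hp : Fact p.Prime] {Z R : Subgroup G} [hZn : Z.Normal] [hRn : R.Normal]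
    (hne : ∃ x ∈ R, x ∉ Z) (hRp : ∀ r ∈ R, ∃ k : ℕ, r ^ (p ^ k) ∈ Z) (A : Subgroup G)
    (hA : ∀ a ∈ A, ∃ k : ℕ, ∀ r ∈ R, a ^ (p ^ k) * r * (a ^ (p ^ k))⁻¹ * r⁻¹ ∈ Z) :
    ∃ x ∈ R, x ∉ Z ∧ ∀ a ∈ A, a * x * a⁻¹ * x⁻¹ ∈ Z := by
  classical
  set π := QuotientGroup.mk' Z with hπ
  have hker : ∀ g : G, π g = 1 ↔ g ∈ Z := by
    intro g
    rw [← MonoidHom.mem_ker, hπ, QuotientGroup.ker_mk']
  have hsurj : Function.Surjective π := QuotientGroup.mk'_surjective Z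
  set Rt := R.map π with hRt
  haveI hRtn : Rt.Normal := Subgroup.Normal.map hRn π hsurj
  let Φ : ↥A →* MulAut ↥Rt := (MulAut.conjNormal (H := Rt)).comp (π.comp A.subtype)
  let ρ : ↥A →* Equiv.Perm ↥Rt := (MulAut.toPerm ↥Rt).comp Φ
  have hρ : ∀ (a : ↥A) (x : ↥Rt), ((ρ a x : ↥Rt) : G ⧸ Z) = π a * x * (π a)⁻¹ := by
    intro a x
    change ((MulAut.conjNormal (H := Rt) (π a) x : ↥Rt) : G ⧸ Z) = _
    rw [MulAut.conjNormal_apply]
  have hHp : IsPGroup p ρ.range := by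
    rintro ⟨y, a, rfl⟩
    obtain ⟨k, hk⟩ := hA a a.2
    refine ⟨k, ?_⟩
    apply Subtype.ext
    ext x
    obtain ⟨r, hr, hrx⟩ := x.2
    have h1 := (hker _).mpr (hk r hr)
    simp only [map_mul, map_inv, map_pow] at h1
    have h2 : (ρ a ^ (p ^ k)) x = ρ (a ^ (p ^ k)) x := by rw [map_pow]
    simp only [Subgroup.coe_pow, OneMemClass.coe_one, Equiv.Perm.coe_one, id_eq]
    rw [h2, hρ]
    have h3 : π ((a ^ (p ^ k) : ↥A) : G) = (π a) ^ (p ^ k) := by simp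
    change π ((a ^ (p ^ k) : ↥A) : G) * _ * (π ((a ^ (p ^ k) : ↥A) : G))⁻¹ = _
    rw [h3, ← hrx]
    have h4 : (π (a : G)) ^ (p ^ k) * π r * ((π (a : G)) ^ (p ^ k))⁻¹ * (π r)⁻¹ = 1 := h1
    calc (π (a : G)) ^ (p ^ k) * π r * ((π (a : G)) ^ (p ^ k))⁻¹
        = ((π (a : G)) ^ (p ^ k) * π r * ((π (a : G)) ^ (p ^ k))⁻¹ * (π r)⁻¹) * π r := by group
      _ = π r := by rw [h4, one_mul]
  have hRtp : IsPGroup p Rt := by
    rintro ⟨y, r, hr, rfl⟩
    obtain ⟨k, hk⟩ := hRp r hr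
    refine ⟨k, ?_⟩
    apply Subtype.ext
    simp only [Subgroup.coe_pow, OneMemClass.coe_one]
    rw [← map_pow, hker]; exact hk
  obtain ⟨x₀, hx₀, hx₀Z⟩ := hne
  have hnt : Nontrivial ↥Rt := by
    refine ⟨⟨⟨π x₀, x₀, hx₀, rfl⟩, 1, ?_⟩⟩
    intro h1
    have := congrArg Subtype.val h1
    exact hx₀Z ((hker _).mp this)
  have hdvd : p ∣ Nat.card ↥Rt := by
    rcases hRtp.card_eq_or_dvd with h | h
    · exact absurd h (Finite.one_lt_card (α := ↥Rt)).ne'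
    · exact h
  have hfix : (1 : ↥Rt) ∈ MulAction.fixedPoints ρ.range ↥Rt := by
    rintro ⟨y, a, rfl⟩
    change ρ a 1 = 1
    apply Subtype.ext
    rw [hρ]
    simp
  obtain ⟨b, hb, hne1⟩ := IsPGroup.exists_fixed_point_of_prime_dvd_card_of_fixed_point hHp ↥Rt hdvd hfix
  obtain ⟨x, hx, hxb⟩ := b.2
  refine ⟨x, hx, ?_, ?_⟩
  · intro hxZ
    apply hne1
    apply Subtype.ext
    rw [← hxb, (hker x).mpr hxZ]
    rfl
  · intro a ha
    have h1 : ρ ⟨a, ha⟩ b = b := hb ⟨ρ ⟨a, ha⟩, ⟨a, ha⟩, rfl⟩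
    have h2 := congrArg Subtype.val h1
    rw [hρ, ← hxb] at h2
    rw [← hker]
    simp only [map_mul, map_inv]
    change π a * π x * (π a)⁻¹ = π x at h2
    rw [h2]
    group

end Cfsg.Agent.Lib.MaxCent
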