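import Mathlib
import Cfsg.Agent.Lib.MaxCent.Fixed

set_option autoImplicit false
open Cfsg

/-!
# The abelian chief factor
-/

namespace Cfsg.Agent.Lib.MaxCent

open scoped Pointwise

variable {G : Type*} [Group G] [Finite G]

local notation "C" x => Subgroup.centralizer ({x} : Set G)

/-- `R/Z(N)` is minimal normal in `G/Z(N)`. -/
structure Chief (N R : Subgroup G) : Prop where
  hmax : HMax N
  hRn : R.Normal
  hZR : Zn N ≤ R
  hRN : R ≤ N
  hne : ∃ x ∈ R, x ∉ Zn N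
  hmin : ∀ T : Subgroup G, T.Normal → Zn N ≤ T → T ≤ R → T = Zn N ∨ T = R
  hZ1 : ∀ x ∈ N, (∀ a ∈ N, a * x * a⁻¹ * x⁻¹ ∈ Zn N) → x ∈ Zn N

/-- `R/Z(N)` abelian implies `R` abelian. -/
theorem Chief.abelian {N R : Subgroup G} [hN : N.Normal] (c : Chief N R)
    (hab : ∀ a ∈ R, ∀ b ∈ R, a * b * a⁻¹ * b⁻¹ ∈ Zn N) : ∀ a ∈ R, ∀ b ∈ R, a * b = b * a := by
  haveI := c.hRn
  have hZrn : (Subgroup.centralizer (R : Set G) ⊓ R).Normal := inferInstance
  have hZZ : Zn N ≤ Subgroup.centralizer (R : Set G) ⊓ R := by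
    intro z hz
    refine Subgroup.mem_inf.mpr ⟨?_, c.hZR hz⟩
    rw [Subgroup.mem_centralizer_iff]
    intro r hr
    exact (mem_Zn.mp hz).2 r (c.hRN hr)
  rcases c.hmin _ hZrn hZZ inf_le_right with he | he
  · exfalso
    obtain ⟨x, hxR, hxZ⟩ := c.hne
    have hxN := c.hRN hxR
    have hRC : ¬ R ≤ (C x) := by
      intro hle
      apply hxZ
      rw [← he]
      refine Subgroup.mem_inf.mpr ⟨?_, hxR⟩
      rw [Subgroup.mem_centralizer_iff]
      intro r hr
      exact (mem_C'.mp (hle hr))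
    apply hxZ
    apply c.hZ1 x hxN
    intro n hn
    obtain ⟨l, hl, t, ht, e⟩ := N_factor c.hmax hxN hxZ c.hRN hRC hn
    have hz := hab t ht x hxR
    set z := t * x * t⁻¹ * x⁻¹ with hzdef
    have hlz : l * z = z * l := (mem_Zn.mp hz).2 l hl.2
    have hlx : l * x = x * l := (mem_Lx.mp hl).1
    have e1 : t * x * t⁻¹ = z * x := by rw [hzdef]; group
    have e2 : n * x * n⁻¹ = z * x := by
      rw [e]
      calc l * t * x * (l * t)⁻¹ = l * (t * x * t⁻¹) * l⁻¹ := by group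
        _ = l * (z * x) * l⁻¹ := by rw [e1]
        _ = (l * z) * x * l⁻¹ := by group
        _ = (z * l) * x * l⁻¹ := by rw [hlz]
        _ = z * (l * x) * l⁻¹ := by group
        _ = z * (x * l) * l⁻¹ := by rw [hlx]
        _ = z * x := by group
    rw [e2]
    have : z * x * x⁻¹ = z := by group
    rwa [this]
  · intro a ha b hb
    have : a ∈ Subgroup.centralizer (R : Set G) ⊓ R := by rw [he]; exact ha
    exact ((Subgroup.mem_centralizer_iff.mp this.1) b hb).symm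

/-- The prime of the abelian chief factor. -/
theorem Chief.exists_prime {N R : Subgroup G} [hN : N.Normal] (c : Chief N R)
    (hab : ∀ a ∈ R, ∀ b ∈ R, a * b = b * a) : ∃ p : ℕ, p.Prime ∧ ∀ a ∈ R, a ^ p ∈ Zn N := by
  haveI := c.hRn
  obtain ⟨x, hxR, hxZ⟩ := c.hne
  set π := QuotientGroup.mk' (Zn N) with hπ
  have hker : ∀ g : G, π g = 1 ↔ g ∈ Zn N := by
    intro g
    rw [← MonoidHom.mem_ker, hπ, QuotientGroup.ker_mk']
  have hy : π x ≠ 1 := fun h1 => hxZ ((hker _).mp h1)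
  have hord : orderOf (π x) ≠ 1 := by rwa [Ne, orderOf_eq_one_iff]
  set r := (orderOf (π x)).minFac with hr
  have hrp : r.Prime := Nat.minFac_prime hord
  set b₀ := x ^ (orderOf (π x) / r) with hb₀
  have hb₀R : b₀ ∈ R := R.pow_mem hxR _
  have hb₀Z : b₀ ∉ Zn N := by
    intro hmem
    have h1 := (hker _).mpr hmem
    rw [hb₀, map_pow] at h1
    have h2 := orderOf_pow_orderOf_div (x := π x) (orderOf_pos _).ne' (Nat.minFac_dvd _)
    rw [← hr, h1, orderOf_one] at h2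
    exact hrp.one_lt.ne h2
  have hb₀r : b₀ ^ r ∈ Zn N := by
    rw [← hker, hb₀, ← pow_mul, Nat.div_mul_cancel (Nat.minFac_dvd _), map_pow, pow_orderOf_eq_one]
  let Ω : Subgroup G :=
    { carrier := {a | a ∈ R ∧ a ^ r ∈ Zn N}
      mul_mem' := by
        rintro a b ⟨ha, ha2⟩ ⟨hb, hb2⟩
        refine ⟨R.mul_mem ha hb, ?_⟩
        have hc : Commute a b := hab a ha b hb
        rw [hc.mul_pow]
        exact Subgroup.mul_mem _ ha2 hb2
      one_mem' := ⟨R.one_mem, by rw [one_pow]; exact Subgroup.one_mem _⟩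
      inv_mem' := by
        rintro a ⟨ha, ha2⟩
        refine ⟨R.inv_mem ha, ?_⟩
        rw [inv_pow]
        exact Subgroup.inv_mem _ ha2 }
  have hΩmem : ∀ a, a ∈ Ω ↔ a ∈ R ∧ a ^ r ∈ Zn N := fun a => Iff.rfl
  have hΩn : Ω.Normal := by
    constructor
    intro a ha g
    rw [hΩmem] at ha ⊢
    refine ⟨c.hRn.conj_mem _ ha.1 g, ?_⟩
    rw [conj_pow]
    exact (Zn_normal N).conj_mem _ ha.2 g
  have hZΩ : Zn N ≤ Ω := fun z hz => ⟨c.hZR hz, Subgroup.pow_mem _ hz _⟩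
  rcases c.hmin Ω hΩn hZΩ (fun a ha => ha.1) with he | he
  · exfalso
    have : b₀ ∈ Ω := ⟨hb₀R, hb₀r⟩
    rw [he] at this
    exact hb₀Z this
  · refine ⟨r, hrp, fun a ha => ?_⟩
    rw [← he] at ha
    exact ha.2

/-- Context: the abelian chief factor with its prime. -/
structure AbChief (N R : Subgroup G) (p : ℕ) : Prop extends Chief N R where
  hab : ∀ a ∈ R, ∀ b ∈ R, a * b = b * a
  hp : p.Prime
  hRp : ∀ a ∈ R, a ^ p ∈ Zn N

theorem AbChief.Zn_le_cent {N R : Subgroup G} {p : ℕ} (c : AbChief N R p) :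
    R ≤ Subgroup.centralizer (R : Set G) := by
  intro a ha
  rw [Subgroup.mem_centralizer_iff]
  intro b hb
  exact c.hab b hb a ha

theorem AbChief.decomp {N R : Subgroup G} {p : ℕ} (c : AbChief N R p) {r : G} (hr : r ∈ R) :
    ∃ a ∈ Subgroup.zpowers r, ∃ b ∈ Zn N, r = a * b ∧ ∃ k : ℕ, a ^ (p ^ k) = 1 := by
  haveI : Fact p.Prime := ⟨c.hp⟩
  obtain ⟨a, b, hab, ha, hb, ⟨k, hk⟩, hbc⟩ := S4314.exists_decomp r p
  refine ⟨a, ha, b, ?_, hab, k, orderOf_dvd_iff_pow_eq_one.mp hk⟩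
  apply mem_of_pow_mem_of_coprime hbc
  obtain ⟨m, rfl⟩ := Subgroup.mem_zpowers_iff.mp hb
  rw [← zpow_natCast, zpow_comm, zpow_natCast]
  exact Subgroup.zpow_mem _ (c.hRp r hr) m

theorem AbChief.exists_p_elt {N R : Subgroup G} {p : ℕ} (c : AbChief N R p) :
    ∃ x ∈ R, x ∉ Zn N ∧ ∃ k : ℕ, x ^ (p ^ k) = 1 := by
  obtain ⟨x, hx, hxZ⟩ := c.hne
  obtain ⟨a, ha, b, hb, e, k, hk⟩ := c.decomp hx
  refine ⟨a, (Subgroup.zpowers_le.mpr hx) ha, ?_, k, hk⟩
  intro haZ
  apply hxZ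
  rw [e]
  exact Subgroup.mul_mem _ haZ hb

/-- `p'`-primary elements: nontrivially acting ones centralize only `Z(N)` in `R`. -/
theorem AbChief.L4 {N R : Subgroup G} {p : ℕ} (c : AbChief N R p) {n : G} (hn : n ∈ N)
    (hnD : n ∉ Subgroup.centralizer (R : Set G)) {s i : ℕ} (hs : s.Prime) (hsp : s ≠ p)
    (hni : n ^ (s ^ i) = 1) {r : G} (hr : r ∈ R) (hrn : Commute r n) : r ∈ Zn N := by
  by_contra hrZ
  obtain ⟨a, ha, b, hb, e, k, hk⟩ := c.decomp hr
  have haZ : a ∉ Zn N := by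
    intro haZ
    apply hrZ
    rw [e]
    exact Subgroup.mul_mem _ haZ hb
  have haR : a ∈ R := (Subgroup.zpowers_le.mpr hr) ha
  have hnZ : n ∉ Zn N := fun h => hnD (c.Zn_le_cent (c.hZR h))
  have hcomm : Commute a n := by
    obtain ⟨m, rfl⟩ := Subgroup.mem_zpowers_iff.mp ha
    exact hrn.zpow_left m
  have hcop := coprime_of_primary c.hp hs hsp hk hni
  have hEq := C_eq_of_coprime' c.hmax (c.hRN haR) haZ hn hnZ hcomm hcop
  apply hnD
  rw [Subgroup.mem_centralizer_iff]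
  intro r' hr'
  have h1 : r' ∈ (C a) := mem_C'.mpr (c.hab r' hr' a haR)
  rw [hEq] at h1
  exact mem_C'.mp h1

/-- A `p'`-primary element acting trivially on `x̄` commutes with `x`. -/
theorem AbChief.L5 {N R : Subgroup G} [hN : N.Normal] {p : ℕ} (c : AbChief N R p) {n : G} (hn : n ∈ N)
    {s i : ℕ} (hs : s.Prime) (hsp : s ≠ p)
    (hni : n ^ (s ^ i) = 1) {x : G} (hx : x ∈ R) (hc : n * x * n⁻¹ * x⁻¹ ∈ Zn N) : Commute x n := by
  obtain ⟨a, ha, b, hb, e, k, hk⟩ := c.decomp hx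
  have haR : a ∈ R := (Subgroup.zpowers_le.mpr hx) ha
  have haN := c.hRN haR
  set π := QuotientGroup.mk' (Zn N) with hπ
  have hker : ∀ g : G, π g = 1 ↔ g ∈ Zn N := by
    intro g
    rw [← MonoidHom.mem_ker, hπ, QuotientGroup.ker_mk']
  have h1 : Commute (π n) (π x) := by
    have := (hker _).mpr hc
    simp only [map_mul, map_inv] at this
    change π n * π x = π x * π n
    calc π n * π x = (π n * π x * (π n)⁻¹ * (π x)⁻¹) * (π x * π n) := by group
      _ = π x * π n := by rw [this, one_mul]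
  have h2 : Commute (π n) (π a) := by
    obtain ⟨m, rfl⟩ := Subgroup.mem_zpowers_iff.mp ha
    rw [map_zpow]
    exact h1.zpow_right m
  set d := n * a * n⁻¹ * a⁻¹ with hd
  have hdZ : d ∈ Zn N := by
    rw [← hker, hd]
    simp only [map_mul, map_inv]
    have : π n * π a = π a * π n := h2
    rw [this]
    group
  have hdn : d * n = n * d := ((mem_Zn.mp hdZ).2 n hn).symm
  have hda : d * a = a * d := ((mem_Zn.mp hdZ).2 a haN).symm
  have h0 : n * a = d * (a * n) := by rw [hd]; group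
  obtain ⟨h3, -⟩ := comm_pow_both hdn hda h0 (s ^ i)
  rw [hni, one_mul, mul_one] at h3
  have h4 : d ^ (s ^ i) = 1 := by
    have : 1 * a = d ^ (s ^ i) * a := by rw [one_mul]; exact h3
    exact (mul_right_cancel this).symm
  have hcR : n * a * n⁻¹ ∈ R := c.hRn.conj_mem a haR n
  have hc1 : Commute (n * a * n⁻¹) a⁻¹ := c.hab _ hcR _ (R.inv_mem haR)
  have h5 : d ^ (p ^ k) = 1 := by
    rw [hd, hc1.mul_pow, conj_pow, hk, inv_pow, hk]
    simp
  have hd1 : d = 1 := by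
    have hc2 := coprime_of_primary c.hp hs hsp h5 h4
    have hself : (orderOf d).Coprime (orderOf d) := by
      have h6 : (p ^ k).Coprime (s ^ i) := Nat.Coprime.pow _ _ ((Nat.coprime_primes c.hp hs).mpr hsp.symm)
      exact Nat.Coprime.of_dvd (orderOf_dvd_of_pow_eq_one h5) (orderOf_dvd_of_pow_eq_one h4) h6
    rw [Nat.coprime_self, orderOf_eq_one_iff] at hself
    exact hself
  have h7 : a * n = n * a := by
    rw [h0, hd1, one_mul]
  show x * n = n * x
  rw [e]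
  have h8 : b * n = n * b := ((mem_Zn.mp hb).2 n hn).symm
  calc a * b * n = a * (b * n) := by group
    _ = a * (n * b) := by rw [h8]
    _ = (a * n) * b := by group
    _ = (n * a) * b := by rw [h7]
    _ = n * (a * b) := by group

/-- A `p'`-primary element acting trivially on `R̄` centralizes `R`. -/
theorem AbChief.L5' {N R : Subgroup G} [hN : N.Normal] {p : ℕ} (c : AbChief N R p) {n : G} (hn : n ∈ N)
    {s i : ℕ} (hs : s.Prime) (hsp : s ≠ p) (hni : n ^ (s ^ i) = 1)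
    (hc : ∀ x ∈ R, n * x * n⁻¹ * x⁻¹ ∈ Zn N) : n ∈ Subgroup.centralizer (R : Set G) := by
  rw [Subgroup.mem_centralizer_iff]
  intro x hx
  exact c.L5 hn hs hsp hni hx (hc x hx)

/-- `L_n` is not normal for `p'`-primary `n` not centralizing `R`. -/
theorem AbChief.L6 {N R : Subgroup G} [hN : N.Normal] {p : ℕ} (c : AbChief N R p) {n : G} (hn : n ∈ N)
    (hnD : n ∉ Subgroup.centralizer (R : Set G)) {s i : ℕ} (hs : s.Prime) (hsp : s ≠ p)
    (hni : n ^ (s ^ i) = 1) : ¬ (Lx N n).Normal := by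
  intro hL
  apply hnD
  apply c.L5' hn hs hsp hni
  intro x hx
  have hnL : n ∈ Lx N n := mem_Lx.mpr ⟨rfl, hn⟩
  have h1 : n * x * n⁻¹ * x⁻¹ ∈ Lx N n := by
    have h2 := hL.conj_mem _ ((Lx N n).inv_mem hnL) x
    have h3 := (Lx N n).mul_mem hnL h2
    have e : n * (x * n⁻¹ * x⁻¹) = n * x * n⁻¹ * x⁻¹ := by group
    rwa [e] at h3
  have h2 : n * x * n⁻¹ * x⁻¹ ∈ R := R.mul_mem (c.hRn.conj_mem x hx n) (R.inv_mem hx)
  exact c.L4 hn hnD hs hsp hni h2 (mem_C'.mp h1.1)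

/-- There is a `p'`-primary element not centralizing `R`. -/
theorem AbChief.exists_n {N R : Subgroup G} [hN : N.Normal] {p : ℕ} (c : AbChief N R p) :
    ∃ n ∈ N, n ∉ Subgroup.centralizer (R : Set G) ∧ ∃ s i : ℕ, s.Prime ∧ s ≠ p ∧ n ^ (s ^ i) = 1 := by
  by_contra hno
  push Not at hno
  haveI : Fact p.Prime := ⟨c.hp⟩
  haveI := c.hRn
  have hA : ∀ a ∈ N, ∃ k : ℕ, ∀ r ∈ R, a ^ (p ^ k) * r * (a ^ (p ^ k))⁻¹ * r⁻¹ ∈ Zn N := by
    intro a ha
    obtain ⟨u, v, e, hu, hv, ⟨k, hk⟩, hvc⟩ := S4314.exists_decomp a p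
    have hvN : v ∈ N := (Subgroup.zpowers_le.mpr ha) hv
    have hvD : v ∈ Subgroup.centralizer (R : Set G) := by
      apply S3904.mem_of_primary_powers
      intro b hb s hs ⟨i, hi⟩
      by_contra hbD
      have hbN : b ∈ N := (Subgroup.zpowers_le.mpr hvN) hb
      by_cases hsp : s = p
      · subst hsp
        have h1 : (orderOf v).Coprime (s ^ i) := Nat.Coprime.pow_right i hvc
        have h2 := Nat.eq_one_of_dvd_coprimes h1 (orderOf_dvd_of_mem_zpowers hb)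
          (orderOf_dvd_of_pow_eq_one hi)
        rw [orderOf_eq_one_iff] at h2
        rw [h2] at hbD
        exact hbD (Subgroup.one_mem _)
      · exact hno b hbN hbD s i hs hsp hi
    refine ⟨k, fun r hr => ?_⟩
    have hcomm : Commute u v := by
      obtain ⟨m, rfl⟩ := Subgroup.mem_zpowers_iff.mp hu
      obtain ⟨n, rfl⟩ := Subgroup.mem_zpowers_iff.mp hv
      exact (Commute.refl a).zpow_zpow _ _
    have h1 : a ^ (p ^ k) = v ^ (p ^ k) := by
      rw [e, hcomm.mul_pow, orderOf_dvd_iff_pow_eq_one.mp hk, one_mul]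
    have h2 : v ^ (p ^ k) ∈ Subgroup.centralizer (R : Set G) := Subgroup.pow_mem _ hvD _
    have h3 : r * v ^ (p ^ k) = v ^ (p ^ k) * r := (Subgroup.mem_centralizer_iff.mp h2) r hr
    rw [h1]
    have h4 : v ^ (p ^ k) * r * (v ^ (p ^ k))⁻¹ * r⁻¹ = 1 := by
      rw [← h3]; group
    rw [h4]
    exact Subgroup.one_mem _
  obtain ⟨x, hx, hxZ, hxa⟩ := exists_fixed p c.hne
    (fun r hr => ⟨1, by rw [pow_one]; exact c.hRp r hr⟩) N hA
  exact hxZ (c.hZ1 x (c.hRN hx) hxa)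

end Cfsg.Agent.Lib.MaxCent
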