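import Mathlib
import Cfsg.Agent.Lib.MaxCent.AbChief

set_option autoImplicit false
open Cfsg

/-!
# The abelian chief factor, continued
-/

namespace Cfsg.Agent.Lib.MaxCent

open scoped Pointwise

variable {G : Type*} [Group G] [Finite G]

local notation "C" x => Subgroup.centralizer ({x} : Set G)

/-- Elements of `B` centralizing `A` modulo `Z`. -/
def Cmod (Z A B : Subgroup G) [Z.Normal] : Subgroup G :=
  (Subgroup.centralizer ((A.map (QuotientGroup.mk' Z) : Subgroup (G ⧸ Z)) : Set (G ⧸ Z))).comap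
    (QuotientGroup.mk' Z) ⊓ B

theorem mem_Cmod {Z A B : Subgroup G} [Z.Normal] {w : G} :
    w ∈ Cmod Z A B ↔ w ∈ B ∧ ∀ r ∈ A, w * r * w⁻¹ * r⁻¹ ∈ Z := by
  have hker : ∀ g : G, QuotientGroup.mk' Z g = 1 ↔ g ∈ Z := by
    intro g
    rw [← MonoidHom.mem_ker, QuotientGroup.ker_mk']
  rw [Cmod, Subgroup.mem_inf, Subgroup.mem_comap, Subgroup.mem_centralizer_iff]
  constructor
  · rintro ⟨h1, h2⟩
    refine ⟨h2, fun r hr => ?_⟩
    rw [← hker]
    have := h1 _ ⟨r, hr, rfl⟩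
    simp only [map_mul, map_inv]
    rw [← this]
    group
  · rintro ⟨h1, h2⟩
    refine ⟨?_, h1⟩
    rintro _ ⟨r, hr, rfl⟩
    have := (hker _).mpr (h2 r hr)
    simp only [map_mul, map_inv] at this
    calc QuotientGroup.mk' Z r * QuotientGroup.mk' Z w
        = ((QuotientGroup.mk' Z w * QuotientGroup.mk' Z r * (QuotientGroup.mk' Z w)⁻¹ *
          (QuotientGroup.mk' Z r)⁻¹)⁻¹) * (QuotientGroup.mk' Z w * QuotientGroup.mk' Z r) := by group
      _ = _ := by rw [this, inv_one, one_mul]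

theorem Cmod_normal {Z A B : Subgroup G} [hZ : Z.Normal] [hA : A.Normal] [hB : B.Normal] :
    (Cmod Z A B).Normal := by
  constructor
  intro w hw g
  rw [mem_Cmod] at hw ⊢
  refine ⟨hB.conj_mem _ hw.1 g, fun r hr => ?_⟩
  have h1 := hZ.conj_mem _ (hw.2 (g⁻¹ * r * g) (by
    have := hA.conj_mem r hr g⁻¹
    simpa using this)) g
  have e : g * (w * (g⁻¹ * r * g) * w⁻¹ * (g⁻¹ * r * g)⁻¹) * g⁻¹ =
      g * w * g⁻¹ * r * (g * w * g⁻¹)⁻¹ * r⁻¹ := by group
  rwa [e] at h1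

section
variable {N R : Subgroup G} [hN : N.Normal] {p : ℕ} (c : AbChief N R p) {n : G} (hn : n ∈ N)
  (hnD : n ∉ Subgroup.centralizer (R : Set G)) {s i : ℕ} (hs : s.Prime) (hsp : s ≠ p)
  (hni : n ^ (s ^ i) = 1)

include c

theorem AbChief.notMem_Zn_of_not_cent {n : G} (hnD : n ∉ Subgroup.centralizer (R : Set G)) :
    n ∉ Zn N := fun h => hnD (c.Zn_le_cent (c.hZR h))

theorem AbChief.not_le_C {n : G} (hnD : n ∉ Subgroup.centralizer (R : Set G)) :
    ¬ R ≤ (C n) := by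
  intro hle
  apply hnD
  rw [Subgroup.mem_centralizer_iff]
  intro r hr
  exact mem_C'.mp (hle hr)

include hn hnD hs hsp hni

/-- `C_N(R) = R`. -/
theorem AbChief.L8 {d : G} (hdN : d ∈ N) (hdD : d ∈ Subgroup.centralizer (R : Set G)) : d ∈ R := by
  haveI := c.hRn
  have hRC := c.not_le_C hnD
  have hnZ := c.notMem_Zn_of_not_cent hnD
  obtain ⟨l, hl, t, ht, e⟩ := N_factor c.hmax hn hnZ c.hRN hRC hdN
  have hlD : l ∈ Subgroup.centralizer (R : Set G) := by
    have : l = d * t⁻¹ := by rw [e]; group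
    rw [this]
    exact Subgroup.mul_mem _ hdD (Subgroup.inv_mem _ (c.Zn_le_cent ht))
  suffices hlZ : l ∈ Zn N by
    rw [e]
    exact R.mul_mem (c.hZR hlZ) ht
  by_contra hlZ
  obtain ⟨e₁, he₁, he₁Z, hCe, t', ht', i', hi'⟩ := exists_primary' c.hmax hl.2 hlZ
  have he₁L : e₁ ∈ Lx N n := (Subgroup.zpowers_le.mpr hl) he₁
  have he₁D : e₁ ∈ Subgroup.centralizer (R : Set G) := (Subgroup.zpowers_le.mpr hlD) he₁
  by_cases hsp' : t' = p
  · subst hsp'
    have hcop := coprime_of_primary c.hp hs hsp hi' hni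
    have hEq := C_eq_of_coprime' c.hmax he₁L.2 he₁Z hn hnZ (mem_C'.mp he₁L.1) hcop
    apply hnD
    rw [Subgroup.mem_centralizer_iff]
    intro r hr
    have h1 : r ∈ (C e₁) := mem_C'.mpr ((Subgroup.mem_centralizer_iff.mp he₁D) r hr)
    rw [hEq] at h1
    exact mem_C'.mp h1
  · obtain ⟨x, hxR, hxZ, k, hk⟩ := c.exists_p_elt
    have hcop := coprime_of_primary c.hp ht' hsp' hk hi'
    have hcomm : Commute x e₁ := (Subgroup.mem_centralizer_iff.mp he₁D) x hxR
    have hEq := C_eq_of_coprime' c.hmax (c.hRN hxR) hxZ he₁L.2 he₁Z hcomm hcop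
    have h1 : n ∈ (C e₁) := mem_C_comm'.mp he₁L.1
    rw [← hEq] at h1
    exact hxZ (c.L4 hn hnD hs hsp hni hxR (mem_C'.mp h1).symm)

/-- `C_N(R/Z) = R` for primary elements. -/
theorem AbChief.W_primary {a : G} (ha : a ∈ N) (hac : ∀ r ∈ R, a * r * a⁻¹ * r⁻¹ ∈ Zn N)
    {s' i' : ℕ} (hs' : s'.Prime) (hi' : a ^ (s' ^ i') = 1) : a ∈ R := by
  haveI := c.hRn
  by_contra haR
  have haD : a ∉ Subgroup.centralizer (R : Set G) := fun h => haR (c.L8 hn hnD hs hsp hni ha h)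
  by_cases hsp' : s' = p
  swap
  · exact haD (c.L5' ha hs' hsp' hi' hac)
  subst hsp'
  have haZ := c.notMem_Zn_of_not_cent haD
  have hRC := c.not_le_C haD
  have hLn : (Lx N a).Normal := by
    constructor
    intro y hy g
    obtain ⟨m, hm, t, ht, eg⟩ := G_factor c.hmax ha haZ hRC g
    set u := a * t * a⁻¹ * t⁻¹ with hu
    have huZ : u ∈ Zn N := hac t ht
    have hma : m * a = a * m := mem_C'.mp hm
    have e1 : g * a * g⁻¹ = m * u⁻¹ * m⁻¹ * a := by
      rw [eg, hu]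
      calc m * t * a * (m * t)⁻¹ = m * (t * a * t⁻¹ * a⁻¹) * a * m⁻¹ := by group
        _ = m * (t * a * t⁻¹ * a⁻¹) * (a * m⁻¹) := by group
        _ = m * (t * a * t⁻¹ * a⁻¹) * (m⁻¹ * a) := by
          have : a * m⁻¹ = m⁻¹ * a := by
            calc a * m⁻¹ = m⁻¹ * (m * a) * m⁻¹ := by group
              _ = m⁻¹ * (a * m) * m⁻¹ := by rw [hma]
              _ = m⁻¹ * a := by group
          rw [this]
        _ = m * (a * t * a⁻¹ * t⁻¹)⁻¹ * m⁻¹ * a := by group
    have hz' : m * u⁻¹ * m⁻¹ ∈ Zn N := (Zn_normal N).conj_mem _ (Subgroup.inv_mem _ huZ) m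
    have h1 := conj_mem_Lx (N := N) (g := g) hy
    rw [mem_Lx] at h1 ⊢
    refine ⟨?_, h1.2⟩
    rw [e1] at h1
    have h2 := h1.1
    have h3 := (mem_Zn.mp hz').2 _ h1.2
    set w := g * y * g⁻¹ with hw
    set z := m * u⁻¹ * m⁻¹ with hz
    apply mul_left_cancel (a := z)
    calc z * (w * a) = (z * w) * a := by group
      _ = (w * z) * a := by rw [h3]
      _ = w * (z * a) := by group
      _ = z * a * w := h2
      _ = z * (a * w) := by group
  haveI := hLn
  have hnp : n ^ s' ∈ Lx N a := by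
    obtain ⟨l, hl, t, ht, e⟩ := N_factor c.hmax ha haZ c.hRN hRC hn
    have hker : ∀ g : G, QuotientGroup.mk' (Lx N a) g = 1 ↔ g ∈ Lx N a := by
      intro g
      rw [← MonoidHom.mem_ker, QuotientGroup.ker_mk']
    rw [← hker, e, map_pow, map_mul, (hker l).mpr hl, one_mul, ← map_pow, hker]
    exact Zn_le_Lx ha (c.hRp t ht)
  have hcop0 : (orderOf n).Coprime s' := by
    have h1 : (s ^ i).Coprime s' := Nat.Coprime.pow_left i ((Nat.coprime_primes hs c.hp).mpr hsp)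
    exact Nat.Coprime.coprime_dvd_left (orderOf_dvd_of_pow_eq_one hni) h1
  have hnL : n ∈ Lx N a := mem_of_pow_mem_of_coprime hcop0 hnp
  have hcop := coprime_of_primary c.hp hs hsp hi' hni
  have hnZ := c.notMem_Zn_of_not_cent hnD
  have hEq := C_eq_of_coprime' c.hmax ha haZ hn hnZ (mem_C'.mp hnL.1).symm hcop
  have hLL : Lx N n = Lx N a := by rw [Lx, Lx, hEq]
  apply c.L6 hn hnD hs hsp hni
  rw [hLL]
  exact hLn

/-- `C_N(R/Z) = R`. -/
theorem AbChief.W_le {w : G} (hw : w ∈ N) (hwc : ∀ r ∈ R, w * r * w⁻¹ * r⁻¹ ∈ Zn N) : w ∈ R := by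
  apply S3904.mem_of_primary_powers
  intro a ha r hr ⟨k, hk⟩
  have hwW : w ∈ Cmod (Zn N) R N := mem_Cmod.mpr ⟨hw, hwc⟩
  have haW := (Subgroup.zpowers_le.mpr hwW) ha
  rw [mem_Cmod] at haW
  exact c.W_primary hn hnD hs hsp hni haW.1 haW.2 hr hk

/-- `N/R` is abelian. -/
theorem AbChief.comm_mem {a b : G} (ha : a ∈ N) (hb : b ∈ N) : a * b * a⁻¹ * b⁻¹ ∈ R := by
  haveI := c.hRn
  have hRC := c.not_le_C hnD
  have hnZ := c.notMem_Zn_of_not_cent hnD
  have hker : ∀ g : G, QuotientGroup.mk' R g = 1 ↔ g ∈ R := by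
    intro g
    rw [← MonoidHom.mem_ker, QuotientGroup.ker_mk']
  have hZN : ∀ (x y : G), x ∈ N → y ∈ N → ∀ l₁ ∈ Lx N x, ∀ t₁ ∈ R,
      QuotientGroup.mk' R (l₁ * t₁) = QuotientGroup.mk' R l₁ := by
    intro x y _ _ l₁ _ t₁ ht₁
    rw [map_mul, (hker t₁).mpr ht₁, mul_one]
  -- `L_n` is central modulo `R`
  have key : ∀ l ∈ Lx N n, ∀ m ∈ Lx N n, l * m * l⁻¹ * m⁻¹ ∈ R := by
    by_cases hLab : ∀ u ∈ Lx N n, ∀ v ∈ Lx N n, u * v = v * u
    · intro l hl m hm
      rw [hLab l hl m hm]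
      have e : m * l * l⁻¹ * m⁻¹ = 1 := by group
      rw [e]; exact R.one_mem
    · intro l hl m hm
      have hlW : l ∈ Cmod R N N := by
        apply S3904.mem_of_primary_powers
        intro u hu t ht ⟨k, hk⟩
        have huL : u ∈ Lx N n := (Subgroup.zpowers_le.mpr hl) hu
        rw [mem_Cmod]
        refine ⟨huL.2, fun v hv => ?_⟩
        by_cases htp : t = p
        · subst htp
          have huZ : u ∈ Zn N := by
            by_contra huZ
            apply hLab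
            have hcop := coprime_of_primary c.hp hs hsp hk hni
            have hEq := C_eq_of_coprime' c.hmax huL.2 huZ hn hnZ (mem_C'.mp huL.1) hcop
            have hLL : Lx N n = Lx N u := by rw [Lx, Lx, hEq]
            rw [hLL]
            exact mulComm_of_coprime' c.hmax huL.2 huZ hn hnZ (mem_C'.mp huL.1) hcop
          have : u * v = v * u := ((mem_Zn.mp huZ).2 v hv).symm
          rw [this]
          have e : v * u * u⁻¹ * v⁻¹ = 1 := by group
          rw [e]; exact R.one_mem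
        · by_cases huR : u ∈ R
          · have h1 := c.hRn.conj_mem _ (R.inv_mem huR) v
            have h2 := R.mul_mem huR h1
            have e : u * (v * u⁻¹ * v⁻¹) = u * v * u⁻¹ * v⁻¹ := by group
            rwa [e] at h2
          · have huD : u ∉ Subgroup.centralizer (R : Set G) :=
              fun h => huR (c.L8 hn hnD hs hsp hni huL.2 h)
            have huZ := c.notMem_Zn_of_not_cent huD
            obtain ⟨l', hl', t', ht', e'⟩ := N_factor c.hmax huL.2 huZ c.hRN (c.not_le_C huD) hv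
            rw [← hker]
            simp only [map_mul, map_inv]
            have hv' : QuotientGroup.mk' R v = QuotientGroup.mk' R l' := by
              rw [e', map_mul, (hker t').mpr ht', mul_one]
            rw [hv']
            have h3 : u * l' = l' * u := (mem_Lx.mp hl').1.symm
            rw [← map_mul, h3, map_mul]
            group
      exact (mem_Cmod.mp hlW).2 m hm.2
  obtain ⟨l₁, hl₁, t₁, ht₁, e₁⟩ := N_factor c.hmax hn hnZ c.hRN hRC ha
  obtain ⟨l₂, hl₂, t₂, ht₂, e₂⟩ := N_factor c.hmax hn hnZ c.hRN hRC hb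
  have h1 := (hker _).mpr (key l₁ hl₁ l₂ hl₂)
  simp only [map_mul, map_inv] at h1
  rw [← hker]
  simp only [map_mul, map_inv]
  have ha' : QuotientGroup.mk' R a = QuotientGroup.mk' R l₁ := by
    rw [e₁, map_mul, (hker t₁).mpr ht₁, mul_one]
  have hb' : QuotientGroup.mk' R b = QuotientGroup.mk' R l₂ := by
    rw [e₂, map_mul, (hker t₂).mpr ht₂, mul_one]
  rw [ha', hb']
  exact h1

/-- `N/R` has order prime to `p`. -/
theorem AbChief.mem_of_pow_mem {a : G} (ha : a ∈ N) {k : ℕ} (hk : a ^ (p ^ k) ∈ R) : a ∈ R := by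
  haveI := c.hRn
  haveI hpf : Fact p.Prime := ⟨c.hp⟩
  have hker : ∀ g : G, QuotientGroup.mk' R g = 1 ↔ g ∈ R := by
    intro g
    rw [← MonoidHom.mem_ker, QuotientGroup.ker_mk']
  let B : Subgroup G :=
    { carrier := {a | a ∈ N ∧ ∃ k : ℕ, a ^ (p ^ k) ∈ R}
      mul_mem' := by
        rintro u v ⟨hu, k₁, hk₁⟩ ⟨hv, k₂, hk₂⟩
        refine ⟨N.mul_mem hu hv, k₁ + k₂, ?_⟩
        have hc : Commute (QuotientGroup.mk' R u) (QuotientGroup.mk' R v) := by
          have h1 := (hker _).mpr (c.comm_mem hn hnD hs hsp hni hu hv)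
          simp only [map_mul, map_inv] at h1
          change QuotientGroup.mk' R u * QuotientGroup.mk' R v = QuotientGroup.mk' R v * QuotientGroup.mk' R u
          calc QuotientGroup.mk' R u * QuotientGroup.mk' R v
              = (QuotientGroup.mk' R u * QuotientGroup.mk' R v * (QuotientGroup.mk' R u)⁻¹ *
                (QuotientGroup.mk' R v)⁻¹) * (QuotientGroup.mk' R v * QuotientGroup.mk' R u) := by group
            _ = _ := by rw [h1, one_mul]
        rw [← hker, map_pow, map_mul, hc.mul_pow, pow_add]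
        have h1 : (QuotientGroup.mk' R u) ^ (p ^ k₁) = 1 := by
          rw [← map_pow, hker]; exact hk₁
        have h2 : (QuotientGroup.mk' R v) ^ (p ^ k₂) = 1 := by
          rw [← map_pow, hker]; exact hk₂
        rw [pow_mul, h1, one_pow, one_mul, mul_comm, pow_mul, h2, one_pow]
      one_mem' := ⟨N.one_mem, 0, by rw [one_pow]; exact R.one_mem⟩
      inv_mem' := by
        rintro u ⟨hu, k₁, hk₁⟩
        refine ⟨N.inv_mem hu, k₁, ?_⟩
        rw [inv_pow]
        exact R.inv_mem hk₁ }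
  have hBmem : ∀ u, u ∈ B ↔ u ∈ N ∧ ∃ k : ℕ, u ^ (p ^ k) ∈ R := fun u => Iff.rfl
  haveI hBn : B.Normal := by
    constructor
    intro u hu g
    rw [hBmem] at hu ⊢
    obtain ⟨hu1, k₁, hk₁⟩ := hu
    refine ⟨hN.conj_mem _ hu1 g, k₁, ?_⟩
    rw [conj_pow]
    exact c.hRn.conj_mem _ hk₁ g
  obtain ⟨x, hxR, hxZ, hxa⟩ := exists_fixed p c.hne
    (fun r hr => ⟨1, by rw [pow_one]; exact c.hRp r hr⟩) B (by
      rintro u ⟨hu, k₁, hk₁⟩
      refine ⟨k₁, fun r hr => ?_⟩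
      have h1 := c.hab _ hk₁ _ hr
      rw [h1]
      have e : r * u ^ p ^ k₁ * (u ^ p ^ k₁)⁻¹ * r⁻¹ = 1 := by group
      rw [e]; exact Subgroup.one_mem _)
  -- `Y = C_{R/Z}(B)` is normal
  set Y := Cmod (Zn N) B R with hY
  haveI hYn : Y.Normal := Cmod_normal
  have hZY : Zn N ≤ Y := by
    intro z hz
    rw [hY, mem_Cmod]
    refine ⟨c.hZR hz, fun b hb => ?_⟩
    have h1 : b * z = z * b := (mem_Zn.mp hz).2 b hb.1
    have e : z * b * z⁻¹ * b⁻¹ = 1 := by
      rw [← h1]; group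
    rw [e]; exact Subgroup.one_mem _
  have hYR : Y ≤ R := fun w hw => (mem_Cmod.mp hw).1
  rcases c.hmin Y hYn hZY hYR with he | he
  · exfalso
    apply hxZ
    rw [← he, hY, mem_Cmod]
    refine ⟨hxR, fun b hb => ?_⟩
    have h1 := Subgroup.inv_mem _ (hxa b hb)
    have e : (b * x * b⁻¹ * x⁻¹)⁻¹ = x * b * x⁻¹ * b⁻¹ := by group
    rwa [e] at h1
  · apply c.W_le hn hnD hs hsp hni ha
    intro r hr
    rw [← he, hY, mem_Cmod] at hr
    have h1 := Subgroup.inv_mem _ (hr.2 a ⟨ha, k, hk⟩)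
    have e : (r * a * r⁻¹ * a⁻¹)⁻¹ = a * r * a⁻¹ * r⁻¹ := by group
    rwa [e] at h1

/-- `C_N(x) = R` for `x ∈ R∖Z(N)`. -/
theorem AbChief.Lx_le {x : G} (hx : x ∈ R) (hxZ : x ∉ Zn N) : Lx N x ≤ R := by
  intro y hy
  apply S3904.mem_of_primary_powers
  intro a ha t ht ⟨k, hk⟩
  have haL : a ∈ Lx N x := (Subgroup.zpowers_le.mpr hy) ha
  by_cases htp : t = p
  · subst htp
    apply c.mem_of_pow_mem hn hnD hs hsp hni haL.2 (k := k)
    rw [hk]; exact R.one_mem
  · by_contra haR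
    have haD : a ∉ Subgroup.centralizer (R : Set G) :=
      fun h => haR (c.L8 hn hnD hs hsp hni haL.2 h)
    exact hxZ (c.L4 haL.2 haD ht htp hk hx (mem_C'.mp haL.1).symm)

/-- `N/R` is a chief factor. -/
theorem AbChief.chief2 {Y : Subgroup G} [hY : Y.Normal] (hRY : R ≤ Y) (hYN : Y ≤ N) (hYR : ¬ Y ≤ R)
    {m : G} (hm : m ∈ N) : m ∈ Y := by
  obtain ⟨x, hxR, hxZ⟩ := c.hne
  have hxN := c.hRN hxR
  have hYC : ¬ Y ≤ (C x) := by
    intro hle
    apply hYR
    intro y hy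
    exact c.Lx_le hn hnD hs hsp hni hxR hxZ ⟨hle hy, hYN hy⟩
  obtain ⟨l, hl, t, ht, e⟩ := N_factor c.hmax hxN hxZ hYN hYC hm
  rw [e]
  exact Y.mul_mem (hRY (c.Lx_le hn hnD hs hsp hni hxR hxZ hl)) ht

/-- `N/R` is elementary abelian for a prime `q ≠ p`. -/
theorem AbChief.exists_q : ∃ q : ℕ, q.Prime ∧ q ≠ p ∧ ∀ a ∈ N, a ^ q ∈ R := by
  haveI := c.hRn
  have hker : ∀ g : G, QuotientGroup.mk' R g = 1 ↔ g ∈ R := by
    intro g
    rw [← MonoidHom.mem_ker, QuotientGroup.ker_mk']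
  set π := QuotientGroup.mk' R with hπ
  have hnR : n ∉ R := fun h => hnD (c.Zn_le_cent h)
  have hy : π n ≠ 1 := fun h1 => hnR ((hker _).mp h1)
  have hord : orderOf (π n) ≠ 1 := by rwa [Ne, orderOf_eq_one_iff]
  set q := (orderOf (π n)).minFac with hq
  have hqp : q.Prime := Nat.minFac_prime hord
  set b₀ := n ^ (orderOf (π n) / q) with hb₀
  have hb₀N : b₀ ∈ N := N.pow_mem hn _
  have hb₀R : b₀ ∉ R := by
    intro hmem
    have h1 := (hker _).mpr hmem
    rw [hb₀, map_pow] at h1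
    have h2 := orderOf_pow_orderOf_div (x := π n) (orderOf_pos _).ne' (Nat.minFac_dvd _)
    rw [← hq, h1, orderOf_one] at h2
    exact hqp.one_lt.ne h2
  have hb₀r : b₀ ^ q ∈ R := by
    rw [← hker, hb₀, ← pow_mul, Nat.div_mul_cancel (Nat.minFac_dvd _), map_pow, pow_orderOf_eq_one]
  have hcommπ : ∀ a ∈ N, ∀ b ∈ N, π a * π b = π b * π a := by
    intro a ha b hb
    have h1 := (hker _).mpr (c.comm_mem hn hnD hs hsp hni ha hb)
    simp only [map_mul, map_inv] at h1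
    calc π a * π b = (π a * π b * (π a)⁻¹ * (π b)⁻¹) * (π b * π a) := by group
      _ = π b * π a := by rw [h1, one_mul]
  let Ω : Subgroup G :=
    { carrier := {a | a ∈ N ∧ a ^ q ∈ R}
      mul_mem' := by
        rintro a b ⟨ha, ha2⟩ ⟨hb, hb2⟩
        refine ⟨N.mul_mem ha hb, ?_⟩
        rw [← hker, map_pow, map_mul, (show Commute (π a) (π b) from hcommπ a ha b hb).mul_pow,
          ← map_pow, ← map_pow, (hker _).mpr ha2, (hker _).mpr hb2, one_mul]
      one_mem' := ⟨N.one_mem, by rw [one_pow]; exact R.one_mem⟩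
      inv_mem' := by
        rintro a ⟨ha, ha2⟩
        refine ⟨N.inv_mem ha, ?_⟩
        rw [inv_pow]
        exact R.inv_mem ha2 }
  have hΩmem : ∀ a, a ∈ Ω ↔ a ∈ N ∧ a ^ q ∈ R := fun a => Iff.rfl
  haveI hΩn : Ω.Normal := by
    constructor
    intro a ha g
    rw [hΩmem] at ha ⊢
    refine ⟨hN.conj_mem _ ha.1 g, ?_⟩
    rw [conj_pow]
    exact c.hRn.conj_mem _ ha.2 g
  have hall : ∀ a ∈ N, a ∈ Ω := fun a ha =>
    c.chief2 hn hnD hs hsp hni (Y := Ω) (fun r hr => ⟨c.hRN hr, R.pow_mem hr _⟩)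
      (fun a ha => ha.1) (fun hle => hb₀R (hle ⟨hb₀N, hb₀r⟩)) ha
  refine ⟨q, hqp, ?_, fun a ha => (hall a ha).2⟩
  intro hqpe
  apply hnR
  apply c.mem_of_pow_mem hn hnD hs hsp hni hn (k := 1)
  rw [pow_one, ← hqpe]
  exact (hall n hn).2

end

end Cfsg.Agent.Lib.MaxCent
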