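import Mathlib
import Cfsg.Agent.Lib.MaxCent.AbChief2
import Cfsg.Agent.Lib.Coprime.Generation

set_option autoImplicit false
open Cfsg

/-!
# The abelian chief factor: the Frobenius conclusion
-/

namespace Cfsg.Agent.Lib.MaxCent

open scoped Pointwise

variable {G : Type*} [Group G] [Finite G]

local notation "C" x => Subgroup.centralizer ({x} : Set G)

theorem AbChief.alt2 {N R : Subgroup G} [hN : N.Normal] {p : ℕ} (c : AbChief N R p) :
    ∃ (Q K : Subgroup (↥N ⧸ Subgroup.center ↥N)) (p : ℕ), p.Prime ∧ Cfsg.IsFrobeniusComplement Q ∧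
      (Nat.card ↥Q).Prime ∧ K.Normal ∧ (K : Set (↥N ⧸ Subgroup.center ↥N)) = Cfsg.frobeniusKernel Q ∧
      Cfsg.IsElementaryAbelian p K := by
  classical
  obtain ⟨n, hn, hnD, s, i, hs, hsp, hni⟩ := c.exists_n
  obtain ⟨q, hq, hqp, hqN⟩ := c.exists_q hn hnD hs hsp hni
  haveI := c.hRn
  haveI hpf : Fact p.Prime := ⟨c.hp⟩
  haveI hqf : Fact q.Prime := ⟨hq⟩
  have hnZ := c.notMem_Zn_of_not_cent hnD
  have hRC := c.not_le_C hnD
  set π := QuotientGroup.mk' (Subgroup.center ↥N) with hπ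
  have hsurj : Function.Surjective π := QuotientGroup.mk'_surjective _
  have hker : ∀ a : ↥N, π a = 1 ↔ (a : G) ∈ Zn N := mk_eq_one_iff
  set K := (R.subgroupOf N).map π with hK
  set A := ((Lx N n).subgroupOf N).map π with hA
  have hπK : ∀ a : ↥N, π a ∈ K ↔ (a : G) ∈ R := by
    intro a
    constructor
    · rintro ⟨b, hb, hab⟩
      have h1 : π (b⁻¹ * a) = 1 := by rw [map_mul, map_inv, hab, inv_mul_cancel]
      have h2 := c.hZR ((hker _).mp h1)
      have h3 := R.mul_mem (Subgroup.mem_subgroupOf.mp hb) h2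
      simpa using h3
    · intro ha
      exact ⟨a, Subgroup.mem_subgroupOf.mpr ha, rfl⟩
  have hπA : ∀ a : ↥N, π a ∈ A ↔ (a : G) ∈ Lx N n := by
    intro a
    constructor
    · rintro ⟨b, hb, hab⟩
      have h1 : π (b⁻¹ * a) = 1 := by rw [map_mul, map_inv, hab, inv_mul_cancel]
      have h2 := Zn_le_Lx hn ((hker _).mp h1)
      have h3 := (Lx N n).mul_mem (Subgroup.mem_subgroupOf.mp hb) h2
      simpa using h3
    · intro ha
      exact ⟨a, Subgroup.mem_subgroupOf.mpr ha, rfl⟩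
  have hLR : ∀ a ∈ Lx N n, a ∈ R → a ∈ Zn N := by
    intro a ha haR
    exact c.L4 hn hnD hs hsp hni haR (mem_C'.mp ha.1)
  have hKn : K.Normal := by
    haveI : (R.subgroupOf N).Normal := inferInstance
    exact Subgroup.Normal.map inferInstance π hsurj
  have hAK : ∀ y, y ∈ A → y ∈ K → y = 1 := by
    intro y hyA hyK
    obtain ⟨a, rfl⟩ := hsurj y
    exact (hker _).mpr (hLR _ ((hπA a).mp hyA) ((hπK a).mp hyK))
  have hKne : K ≠ ⊥ := by
    obtain ⟨x, hxR, hxZ⟩ := c.hne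
    intro hb
    have h1 : π ⟨x, c.hRN hxR⟩ ∈ K := (hπK _).mpr hxR
    rw [hb, Subgroup.mem_bot] at h1
    exact hxZ ((hker _).mp h1)
  have hAne : A ≠ ⊥ := by
    intro hb
    have h1 : π ⟨n, hn⟩ ∈ A := (hπA _).mpr (mem_Lx.mpr ⟨rfl, hn⟩)
    rw [hb, Subgroup.mem_bot] at h1
    exact hnZ ((hker _).mp h1)
  have hAq : ∀ y ∈ A, y ^ q = 1 := by
    intro y hy
    obtain ⟨a, rfl⟩ := hsurj y
    rw [← map_pow, hker]
    have h1 := (hπA a).mp hy
    exact hLR _ (by simpa using (Lx N n).pow_mem h1 q) (by simpa using hqN _ a.2)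
  have hAab : ∀ y ∈ A, ∀ z ∈ A, y * z = z * y := by
    intro y hy z hz
    obtain ⟨a, rfl⟩ := hsurj y
    obtain ⟨b, rfl⟩ := hsurj z
    have ha := (hπA a).mp hy
    have hb := (hπA b).mp hz
    have h1 := hLR _ (((Lx N n).mul_mem ((Lx N n).mul_mem ((Lx N n).mul_mem ha hb)
      ((Lx N n).inv_mem ha)) ((Lx N n).inv_mem hb)))
      (c.comm_mem hn hnD hs hsp hni a.2 b.2)
    have h2 : π (a * b * a⁻¹ * b⁻¹) = 1 := (hker _).mpr (by simpa using h1)
    simp only [map_mul, map_inv] at h2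
    calc π a * π b = (π a * π b * (π a)⁻¹ * (π b)⁻¹) * (π b * π a) := by group
      _ = π b * π a := by rw [h2, one_mul]
  have hAab' : IsMulCommutative A := ⟨⟨fun a b => Subtype.ext (hAab _ a.2 _ b.2)⟩⟩
  have hAp : IsPGroup q A := by
    rintro ⟨y, hy⟩
    refine ⟨1, Subtype.ext ?_⟩
    simpa using hAq y hy
  have hKp : IsPGroup p K := by
    rintro ⟨y, hy⟩
    refine ⟨1, Subtype.ext ?_⟩
    obtain ⟨a, rfl⟩ := hsurj y
    simp only [Subgroup.coe_pow, pow_one, OneMemClass.coe_one]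
    rw [← map_pow, hker]
    simpa using c.hRp _ ((hπK a).mp hy)
  have hcop : (Nat.card A).Coprime (Nat.card K) := IsPGroup.coprime_card_of_ne q p hqp A K hAp hKp
  -- `A` is cyclic
  have hcyc : ∃ a ∈ A, Subgroup.zpowers a = A := by
    by_contra hno
    push Not at hno
    apply hKne
    rw [eq_bot_iff]
    refine (Cfsg.Agent.Lib.Coprime.Generation.le_iSup_cocyclic A K hAab' ?_ hcop).trans ?_
    · rw [Subgroup.normalizer_eq_top_iff.mpr hKn]; exact le_top
    · refine iSup₂_le fun B hB => ?_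
      obtain ⟨hBA, a, ha, hBa⟩ := hB
      have hBne : ∃ b ∈ B, b ≠ 1 := by
        by_contra hall
        push Not at hall
        have : B = ⊥ := by
          rw [eq_bot_iff]
          intro b hb
          rw [Subgroup.mem_bot]
          exact hall b hb
        rw [this, bot_sup_eq] at hBa
        exact hno a ha hBa
      obtain ⟨b, hbB, hb1⟩ := hBne
      rintro y ⟨hyK, hyC⟩
      rw [Subgroup.mem_bot]
      obtain ⟨⟨x, hxN⟩, rfl⟩ := hsurj y
      obtain ⟨⟨l, hlN⟩, rfl⟩ := hsurj b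
      have hxR : x ∈ R := (hπK _).mp hyK
      have hlL : l ∈ Lx N n := (hπA _).mp (hBA hbB)
      have hlZ : l ∉ Zn N := fun h => hb1 ((hker _).mpr h)
      have hcomm : π ⟨l, hlN⟩ * π ⟨x, hxN⟩ = π ⟨x, hxN⟩ * π ⟨l, hlN⟩ :=
        (Subgroup.mem_centralizer_iff.mp hyC) _ hbB
      -- the `q`-part of `l`
      obtain ⟨l', w, e, hl', hw, ⟨k, hk⟩, hwc⟩ := S4314.exists_decomp l q
      have hlq : l ^ q ∈ Zn N := hLR _ ((Lx N n).pow_mem hlL q) (hqN _ hlN)
      have hwZ : w ∈ Zn N := by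
        apply mem_of_pow_mem_of_coprime hwc
        obtain ⟨m, rfl⟩ := Subgroup.mem_zpowers_iff.mp hw
        rw [← zpow_natCast, zpow_comm, zpow_natCast]
        exact Subgroup.zpow_mem _ hlq m
      have hl'L : l' ∈ Lx N n := (Subgroup.zpowers_le.mpr hlL) hl'
      have hl'Z : l' ∉ Zn N := by
        intro h
        apply hlZ
        rw [e]
        exact Subgroup.mul_mem _ h hwZ
      have hl'R : l' ∉ R := fun h => hl'Z (hLR _ hl'L h)
      have hl'D : l' ∉ Subgroup.centralizer (R : Set G) :=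
        fun h => hl'R (c.L8 hn hnD hs hsp hni hl'L.2 h)
      -- `l'` centralizes `x` modulo `Z`
      have hkZ : l' * x * l'⁻¹ * x⁻¹ ∈ Zn N := by
        have h1 : w * x = x * w := ((mem_Zn.mp hwZ).2 x hxN).symm
        have h2 : π ⟨l' * w * x * (l' * w)⁻¹ * x⁻¹, by
            have := N.mul_mem (N.mul_mem hl'L.2 (Zn_le N hwZ)) hxN
            have := N.mul_mem (N.mul_mem this (N.inv_mem (N.mul_mem hl'L.2 (Zn_le N hwZ)))) (N.inv_mem hxN)
            exact this⟩ = 1 := by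
          have h3 : (⟨l' * w * x * (l' * w)⁻¹ * x⁻¹, by
              have := N.mul_mem (N.mul_mem hl'L.2 (Zn_le N hwZ)) hxN
              have := N.mul_mem (N.mul_mem this (N.inv_mem (N.mul_mem hl'L.2 (Zn_le N hwZ)))) (N.inv_mem hxN)
              exact this⟩ : ↥N) = ⟨l, hlN⟩ * ⟨x, hxN⟩ * ⟨l, hlN⟩⁻¹ * ⟨x, hxN⟩⁻¹ := by
            apply Subtype.ext
            simp [e]
          rw [h3]
          simp only [map_mul, map_inv]
          rw [hcomm]
          group
        have h4 := (hker _).mp h2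
        have e2 : l' * w * x * (l' * w)⁻¹ * x⁻¹ = l' * x * l'⁻¹ * x⁻¹ := by
          calc l' * w * x * (l' * w)⁻¹ * x⁻¹ = l' * (w * x) * w⁻¹ * l'⁻¹ * x⁻¹ := by group
            _ = l' * (x * w) * w⁻¹ * l'⁻¹ * x⁻¹ := by rw [h1]
            _ = _ := by group
        simp only at h4
        rwa [e2] at h4
      have h5 := c.L5 hl'L.2 hq hqp (orderOf_dvd_iff_pow_eq_one.mp hk) hxR hkZ
      exact (hker _).mpr (c.L4 hl'L.2 hl'D hq hqp (orderOf_dvd_iff_pow_eq_one.mp hk) hxR h5)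
  obtain ⟨a₀, ha₀, ha₀z⟩ := hcyc
  have ha₀1 : a₀ ≠ 1 := by
    intro h1
    rw [h1, Subgroup.zpowers_one_eq_bot] at ha₀z
    exact hAne ha₀z.symm
  have hcardA : Nat.card A = q := by
    rw [← ha₀z, Nat.card_zpowers, orderOf_eq_prime (hAq _ ha₀) ha₀1]
  have hAprime : (Nat.card A).Prime := by rw [hcardA]; exact hq
  -- Frobenius complement
  have hAtop : A ≠ ⊤ := by
    intro ht
    apply hKne
    rw [eq_bot_iff]
    intro y hy
    rw [Subgroup.mem_bot]
    exact hAK y (by rw [ht]; trivial) hy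
  have hnL : ¬ (Lx N n).Normal := c.L6 hn hnD hs hsp hni
  have hF : ∀ g, g ∉ A → A ⊓ (MulAut.conj g • A) = ⊥ := by
    intro g hg
    rw [eq_bot_iff]
    rintro y ⟨hy1, hy2⟩
    rw [Subgroup.mem_bot]
    by_contra hy
    have hc1 : Subgroup.zpowers y = A := by
      apply Subgroup.eq_of_le_of_card_ge (Subgroup.zpowers_le.mpr hy1)
      rw [hcardA, Nat.card_zpowers, orderOf_eq_prime (hAq _ hy1) hy]
    have hc2 : Subgroup.zpowers y = MulAut.conj g • A := by
      apply Subgroup.eq_of_le_of_card_ge (Subgroup.zpowers_le.mpr hy2)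
      have h1 : Nat.card ↥(MulAut.conj g • A) = q := by
        rw [← hcardA]
        exact (Nat.card_congr (Subgroup.equivSMul (MulAut.conj g) A).toEquiv).symm
      rw [h1, Nat.card_zpowers, orderOf_eq_prime (hAq _ hy1) hy]
    have hAg : MulAut.conj g • A = A := hc2.symm.trans hc1
    obtain ⟨⟨g', hg'⟩, rfl⟩ := hsurj g
    apply hg
    rw [hπA]
    refine self_norm c.hmax hn hnZ hnL hg' (mem_normalizer_of ?_)
    intro l hl
    have hlN := hl.2
    have h1 : π ⟨l, hlN⟩ ∈ A := (hπA _).mpr hl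
    have h2 : π ⟨g', hg'⟩ * π ⟨l, hlN⟩ * (π ⟨g', hg'⟩)⁻¹ ∈ MulAut.conj (π ⟨g', hg'⟩) • A := by
      rw [Cfsg.Agent.Lib.Solvable.FrobQuot.mem_conj_smul_iff']
      have : (π ⟨g', hg'⟩)⁻¹ * (π ⟨g', hg'⟩ * π ⟨l, hlN⟩ * (π ⟨g', hg'⟩)⁻¹) * π ⟨g', hg'⟩ = π ⟨l, hlN⟩ := by
        group
      rwa [this]
    rw [hAg] at h2
    simp only [← map_mul, ← map_inv] at h2
    exact (hπA _).mp h2
  have hFrob : Cfsg.IsFrobeniusComplement A := ⟨hAne, hAtop, hF⟩
  obtain ⟨K', hK', hK'n, hK'c⟩ := Cfsg.Agent.Lib.Char.FrobeniusKernel.frobenius_theorem A hFrob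
  have hKK' : K ≤ K' := by
    intro k hk
    have : k ∈ (K' : Set _) := by
      rw [hK']
      by_cases hk1 : k = 1
      · exact Or.inl hk1
      · right
        intro g hg
        rw [Cfsg.Agent.Lib.Solvable.FrobQuot.mem_conj_smul_iff'] at hg
        have h1 : g⁻¹ * k * g ∈ K := by
          have := hKn.conj_mem k hk g⁻¹
          simpa using this
        have h2 := hAK _ hg h1
        apply hk1
        have : k = g * (g⁻¹ * k * g) * g⁻¹ := by group
        rw [this, h2]; group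
    exact this
  have hK'K : K' ≤ K := by
    intro k hk
    obtain ⟨⟨m, hm⟩, rfl⟩ := hsurj k
    obtain ⟨l, hl, t, ht, e⟩ := N_factor c.hmax hn hnZ c.hRN hRC hm
    have hlN := hl.2
    have htN := c.hRN ht
    have e' : (⟨m, hm⟩ : ↥N) = ⟨l, hlN⟩ * ⟨t, htN⟩ := Subtype.ext e
    have h1 : π ⟨l, hlN⟩ ∈ A := (hπA _).mpr hl
    have h2 : π ⟨t, htN⟩ ∈ K := (hπK _).mpr ht
    have h3 : π ⟨l, hlN⟩ ∈ K' := by
      have h4 : π ⟨l, hlN⟩ = π ⟨m, hm⟩ * (π ⟨t, htN⟩)⁻¹ := by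
        rw [e', map_mul]; group
      rw [h4]
      exact K'.mul_mem hk (K'.inv_mem (hKK' h2))
    have h5 := (Subgroup.disjoint_def.mp hK'c.disjoint) h3 h1
    rw [e', map_mul, h5, one_mul]
    exact h2
  have hKe : K = K' := le_antisymm hKK' hK'K
  refine ⟨A, K, p, c.hp, hFrob, hAprime, hKn, ?_, ?_, ?_⟩
  · rw [hKe]; exact hK'
  · refine ⟨⟨fun a b => Subtype.ext ?_⟩⟩
    obtain ⟨a, ha⟩ := a
    obtain ⟨b, hb⟩ := b
    obtain ⟨u, rfl⟩ := hsurj a
    obtain ⟨v, rfl⟩ := hsurj b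
    change π u * π v = π v * π u
    rw [← map_mul, ← map_mul]
    congr 1
    exact Subtype.ext (c.hab _ ((hπK u).mp ha) _ ((hπK v).mp hb))
  · intro y hy
    obtain ⟨a, rfl⟩ := hsurj y
    rw [← map_pow, hker]
    simpa using c.hRp _ ((hπK a).mp hy)

end Cfsg.Agent.Lib.MaxCent
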