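import Mathlib
import Cfsg.Agent.Lib.MaxCent.Basic

set_option autoImplicit false
open Cfsg

/-!
# The counting contradiction and a normalizer lemma
-/

namespace Cfsg.Agent.Lib.MaxCent

open scoped Pointwise

variable {G : Type*} [Group G] [Finite G]

local notation "C" x => Subgroup.centralizer ({x} : Set G)

/-- A proper subgroup of a group which is a `t`-group modulo a central subgroup is properly
normalized. -/
theorem exists_normalizing {A D Z : Subgroup G} (t : ℕ) [ht : Fact t.Prime] (hDA : D < A)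
    (hZc : ∀ z ∈ Z, ∀ a ∈ A, a * z = z * a) (hp : ∀ a ∈ A, ∃ j : ℕ, a ^ (t ^ j) ∈ Z) :
    ∃ y ∈ A, y ∉ D ∧ ∀ d ∈ D, y * d * y⁻¹ ∈ D := by
  have h1 : IsPGroup t (↥A ⧸ Subgroup.center ↥A) := by
    intro y
    obtain ⟨g, rfl⟩ := QuotientGroup.mk'_surjective _ y
    obtain ⟨j, hj⟩ := hp g g.2
    refine ⟨j, ?_⟩
    rw [← map_pow, ← MonoidHom.mem_ker, QuotientGroup.ker_mk', Subgroup.mem_center_iff]
    intro b
    apply Subtype.ext
    simp only [Subgroup.coe_mul, Subgroup.coe_pow]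
    exact hZc _ hj b b.2
  haveI : Group.IsNilpotent (↥A ⧸ Subgroup.center ↥A) := h1.isNilpotent
  haveI : Group.IsNilpotent ↥A := Group.of_quotient_center_nilpotent (G := ↥A) inferInstance
  have hcond := Group.normalizerCondition_of_isNilpotent (G := ↥A)
  have hlt : D.subgroupOf A < ⊤ := by
    apply lt_top_iff_ne_top.mpr
    intro he
    apply hDA.not_ge
    intro a ha
    have : (⟨a, ha⟩ : ↥A) ∈ D.subgroupOf A := by rw [he]; trivial
    exact Subgroup.mem_subgroupOf.mp this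
  have h2 := hcond _ hlt
  obtain ⟨y, hy1, hy2⟩ := SetLike.exists_of_lt h2
  refine ⟨y, y.2, fun h => hy2 (Subgroup.mem_subgroupOf.mpr h), fun d hd => ?_⟩
  have h3 : (⟨d, hDA.le hd⟩ : ↥A) ∈ D.subgroupOf A := Subgroup.mem_subgroupOf.mpr hd
  have h4 := ((Subgroup.mem_normalizer_iff.mp hy1) _).mp h3
  exact Subgroup.mem_subgroupOf.mp h4

/-- `r^2` divides the index of the center in `C(v)`. -/
theorem sq_le_index_center' {v : G} {r : ℕ} [hr : Fact r.Prime]
    (hnab : ¬ ∀ a ∈ (C v), ∀ b ∈ (C v), a * b = b * a)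
    (hM : ∀ w ∈ (C v), ∃ j : ℕ, w ^ (r ^ j) ∈ Subgroup.center G) :
    r ^ 2 ≤ (Subgroup.center (C v)).index := by
  set A := Subgroup.center ↥(C v) with hA
  have hP : IsPGroup r (↥(C v) ⧸ A) := by
    intro y
    obtain ⟨w, rfl⟩ := QuotientGroup.mk'_surjective A y
    obtain ⟨j, hj⟩ := hM w.1 w.2
    refine ⟨j, ?_⟩
    rw [← map_pow, ← MonoidHom.mem_ker, QuotientGroup.ker_mk', hA, Subgroup.mem_center_iff]
    intro m
    apply Subtype.ext
    have := (Subgroup.mem_center_iff.mp hj) m.1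
    exact this
  obtain ⟨n, hn⟩ := IsPGroup.iff_card.mp hP
  have hnot : ¬ ∀ a b : ↥(C v), a * b = b * a := by
    intro h
    apply hnab
    intro a ha b hb
    exact congrArg Subtype.val (h ⟨a, ha⟩ ⟨b, hb⟩)
  have hi : A.index = r ^ n := by rw [Subgroup.index_eq_card]; exact hn
  rw [hi]
  apply Nat.pow_le_pow_right hr.out.pos
  by_contra hn2
  have hcyc : IsCyclic (↥(C v) ⧸ A) := by
    have : n = 0 ∨ n = 1 := by omega
    rcases this with rfl | rfl
    · rw [pow_zero] at hn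
      haveI : Subsingleton (↥(C v) ⧸ A) := (Nat.card_eq_one_iff_unique.mp hn).1
      infer_instance
    · rw [pow_one] at hn
      exact isCyclic_of_prime_card hn
  apply hnot
  exact commutative_of_cyclic_center_quotient (QuotientGroup.mk' A) (by rw [QuotientGroup.ker_mk'])

/-- Hypotheses of the counting argument. -/
structure CountHyp (G : Type*) [Group G] : Prop where
  hnab : ∀ x : G, x ∉ Subgroup.center G → ¬ ∀ a ∈ Subgroup.centralizer ({x} : Set G),
    ∀ b ∈ Subgroup.centralizer ({x} : Set G), a * b = b * a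
  hprim : ∀ x : G, x ∉ Subgroup.center G → ∃ y ∈ Subgroup.zpowers x, y ∉ Subgroup.center G ∧
    Subgroup.centralizer ({x} : Set G) = Subgroup.centralizer ({y} : Set G) ∧
      ∃ t : ℕ, t.Prime ∧ ∃ i : ℕ, y ^ (t ^ i) = 1
  hsyl : ∀ (v : G), v ∉ Subgroup.center G → ∀ (r k : ℕ) [Fact r.Prime], v ^ (r ^ k) = 1 →
    ∃ S : Sylow r (G ⧸ Subgroup.center G),
      (S : Subgroup (G ⧸ Subgroup.center G)).comap (QuotientGroup.mk' (Subgroup.center G)) =
        Subgroup.centralizer ({v} : Set G)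

/-- Counting `Er`. -/
theorem card_Er_mul_sq_le' (hh : CountHyp G) (r : ℕ) [hr : Fact r.Prime] :
    Nat.card (S3904.Er G r) * r ^ 2 ≤ Nat.card G := by
  by_cases hE : (S3904.Er G r).Nonempty
  swap
  · rw [Set.not_nonempty_iff_eq_empty] at hE
    rw [hE]; simp
  obtain ⟨x₁, hx₁Z, v₁, hv₁, ⟨k₁, hk₁⟩, hx₁v₁⟩ := hE
  obtain ⟨S₁, hS₁⟩ := hh.hsyl v₁ hv₁ r k₁ hk₁
  set M := (C v₁) with hM
  set A := Subgroup.center ↥M with hA
  let f : (G ⧸ M) × ↥A → G := fun c => (Quotient.out c.1 : G) * ((c.2 : ↥M) : G) * (Quotient.out c.1 : G)⁻¹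
  have hsub : S3904.Er G r ⊆ Set.range f := by
    rintro x ⟨hxZ, v, hv, ⟨k, hk⟩, hxv⟩
    obtain ⟨S, hS⟩ := hh.hsyl v hv r k hk
    obtain ⟨gb, hgb⟩ := MulAction.exists_smul_eq (G ⧸ Subgroup.center G) S₁ S
    obtain ⟨g, rfl⟩ := QuotientGroup.mk'_surjective (Subgroup.center G) gb
    have hmem : ∀ y : G, y ∈ (C x) ↔ g⁻¹ * y * g ∈ M := by
      intro y
      rw [hxv, ← hS, ← hS₁, ← hgb, Subgroup.mem_comap, Subgroup.mem_comap, Sylow.coe_subgroup_smul,
        Lib.Solvable.FrobQuot.mem_conj_smul_iff']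
      simp only [map_mul, map_inv]
    have hxC : x ∈ (C x) := mem_C'.mpr rfl
    have haM : g⁻¹ * x * g ∈ M := (hmem x).mp hxC
    have haA : (⟨g⁻¹ * x * g, haM⟩ : ↥M) ∈ A := by
      rw [hA, Subgroup.mem_center_iff]
      rintro ⟨m, hm⟩
      apply Subtype.ext
      have h1 : g * m * g⁻¹ ∈ (C x) := by
        rw [hmem]
        have : g⁻¹ * (g * m * g⁻¹) * g = m := by group
        rwa [this]
      have h2 := mem_C'.mp h1
      show m * (g⁻¹ * x * g) = (g⁻¹ * x * g) * m
      calc m * (g⁻¹ * x * g) = g⁻¹ * ((g * m * g⁻¹) * x) * g := by group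
        _ = g⁻¹ * (x * (g * m * g⁻¹)) * g := by rw [h2]
        _ = (g⁻¹ * x * g) * m := by group
    refine ⟨⟨(g : G ⧸ M), ⟨⟨g⁻¹ * x * g, haM⟩, haA⟩⟩, ?_⟩
    simp only [f]
    obtain ⟨m, hm, hgm⟩ : ∃ m ∈ M, (Quotient.out (g : G ⧸ M) : G) = g * m := by
      have h3 : ((Quotient.out (g : G ⧸ M) : G) : G ⧸ M) = (g : G ⧸ M) := QuotientGroup.out_eq' _
      have h4 := QuotientGroup.eq.mp h3
      refine ⟨_, (Subgroup.inv_mem _ h4), ?_⟩
      group
    rw [hgm]
    have h5 : m * (g⁻¹ * x * g) = (g⁻¹ * x * g) * m := by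
      have h6 := (Subgroup.mem_center_iff.mp haA) ⟨m, hm⟩
      exact congrArg Subtype.val h6
    calc g * m * (g⁻¹ * x * g) * (g * m)⁻¹ = g * (m * (g⁻¹ * x * g)) * (g * m)⁻¹ := by group
      _ = g * ((g⁻¹ * x * g) * m) * (g * m)⁻¹ := by rw [h5]
      _ = x := by group
  have h1 := S3904.card_le_of_subset_range f _ hsub
  rw [Nat.card_prod] at h1
  have h2 : Nat.card (G ⧸ M) = M.index := rfl
  have hMp : ∀ w ∈ (C v₁), ∃ j : ℕ, w ^ (r ^ j) ∈ Subgroup.center G := by
    intro w hw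
    have hw' : w ∈ (S₁ : Subgroup (G ⧸ Subgroup.center G)).comap (QuotientGroup.mk' (Subgroup.center G)) := by
      rw [hS₁]; exact hw
    obtain ⟨j, hj⟩ := S₁.isPGroup' ⟨_, hw'⟩
    refine ⟨j, ?_⟩
    have h6 := congrArg Subtype.val hj
    simp only [Subgroup.coe_pow, OneMemClass.coe_one] at h6
    rw [← map_pow, ← MonoidHom.mem_ker, QuotientGroup.ker_mk'] at h6
    exact h6
  have h3 : r ^ 2 ≤ A.index := sq_le_index_center' (hh.hnab v₁ hv₁) hMp
  have h4 : Nat.card A * A.index = Nat.card M := A.card_mul_index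
  have h5 : Nat.card M * M.index = Nat.card G := M.card_mul_index
  rw [h2] at h1
  calc Nat.card (S3904.Er G r) * r ^ 2 ≤ (M.index * Nat.card A) * A.index := Nat.mul_le_mul h1 h3
    _ = M.index * (Nat.card A * A.index) := by ring
    _ = Nat.card G := by rw [h4, mul_comm, h5]

/-- The counting contradiction. -/
theorem count_false (hh : CountHyp G) {x₀ : G} (hx₀ : x₀ ∉ Subgroup.center G) : False := by
  classical
  cases nonempty_fintype G
  set R := (Nat.card G).primeFactors with hR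
  have hRp : ∀ r ∈ R, r.Prime := fun r hr => (Nat.mem_primeFactors.mp hr).1
  let Ef : ℕ → Finset G := fun r => (Set.toFinite (S3904.Er G r)).toFinset
  have hEf : ∀ r : ℕ, (Ef r).card = Nat.card (S3904.Er G r) := by
    intro r
    rw [Nat.card_coe_set_eq, Set.ncard_eq_toFinset_card _ (Set.toFinite _)]
  have hcover : (Finset.univ.filter (fun x : G => x ∉ Subgroup.center G)) ⊆ R.biUnion Ef := by
    intro x hx
    have hxZ := (Finset.mem_filter.mp hx).2
    obtain ⟨y, -, hyZ, hxy, t, ht, i, hi⟩ := hh.hprim x hxZ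
    rw [Finset.mem_biUnion]
    refine ⟨t, ?_, ?_⟩
    · rw [hR, Nat.mem_primeFactors]
      refine ⟨ht, ?_, Nat.card_pos.ne'⟩
      have hy1 : y ≠ 1 := fun h => hyZ (h ▸ Subgroup.one_mem _)
      have h1 : orderOf y ∣ t ^ i := orderOf_dvd_of_pow_eq_one hi
      obtain ⟨j, -, hj⟩ := (Nat.dvd_prime_pow ht).mp h1
      have hj0 : j ≠ 0 := by
        rintro rfl
        rw [pow_zero, orderOf_eq_one_iff] at hj
        exact hy1 hj
      have h2 : t ∣ orderOf y := by rw [hj]; exact dvd_pow_self t hj0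
      exact h2.trans (orderOf_dvd_natCard y)
    · simp only [Ef, Set.Finite.mem_toFinset]
      exact ⟨hxZ, y, hyZ, ⟨i, hi⟩, hxy⟩
  have hcard1 : (Finset.univ.filter (fun x : G => x ∉ Subgroup.center G)).card +
      Nat.card (Subgroup.center G) = Nat.card G := by
    have h1 := Finset.card_filter_add_card_filter_not (s := (Finset.univ : Finset G)) (fun x : G => x ∈ Subgroup.center G)
    have h2 : (Finset.univ.filter (fun x : G => x ∈ Subgroup.center G)).card = Nat.card (Subgroup.center G) := by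
      rw [Nat.card_eq_fintype_card, Fintype.card_subtype]
    rw [Finset.card_univ, h2, ← Nat.card_eq_fintype_card] at h1
    omega
  have hsum : (((Finset.univ.filter (fun x : G => x ∉ Subgroup.center G)).card : ℕ) : ℚ) ≤
      (Nat.card G : ℚ) * (11 / 18) := by
    have h1 : (Finset.univ.filter (fun x : G => x ∉ Subgroup.center G)).card ≤ ∑ r ∈ R, (Ef r).card :=
      (Finset.card_le_card hcover).trans Finset.card_biUnion_le
    have h2 : (((∑ r ∈ R, (Ef r).card : ℕ)) : ℚ) ≤ ∑ r ∈ R, (Nat.card G : ℚ) * (1 / (r : ℚ) ^ 2) := by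
      push_cast
      apply Finset.sum_le_sum
      intro r hr
      haveI : Fact r.Prime := ⟨hRp r hr⟩
      have h3 := card_Er_mul_sq_le' hh r
      rw [← hEf] at h3
      have hrpos : (0 : ℚ) < (r : ℚ) ^ 2 := by
        have := (hRp r hr).pos
        positivity
      have h4 : ((Ef r).card : ℚ) * (r : ℚ) ^ 2 ≤ (Nat.card G : ℚ) := by exact_mod_cast h3
      rw [mul_one_div, le_div_iff₀ hrpos]
      exact h4
    rw [← Finset.mul_sum] at h2
    have h5 := S3904.sum_inv_sq_le R hRp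
    have h6 : (0 : ℚ) ≤ (Nat.card G : ℚ) := by positivity
    calc (((Finset.univ.filter (fun x : G => x ∉ Subgroup.center G)).card : ℕ) : ℚ)
        ≤ ((∑ r ∈ R, (Ef r).card : ℕ) : ℚ) := by exact_mod_cast h1
      _ ≤ _ := h2
      _ ≤ _ := mul_le_mul_of_nonneg_left h5 h6
  -- index of the center
  have hZindex := (Subgroup.center G).card_mul_index
  set i := (Subgroup.center G).index with hi
  have hi1 : i ≠ 1 := by
    intro h
    have := Subgroup.index_eq_one.mp h
    apply hx₀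
    rw [this]; trivial
  have hi0 : i ≠ 0 := Subgroup.index_ne_zero_of_finite
  have hZpos : (0 : ℚ) < (Nat.card (Subgroup.center G) : ℚ) := by
    have : 0 < Nat.card (Subgroup.center G) := Nat.card_pos
    exact_mod_cast this
  have hi2 : 7 * i ≤ 18 := by
    have h1 : ((Finset.univ.filter (fun x : G => x ∉ Subgroup.center G)).card : ℚ) +
        (Nat.card (Subgroup.center G) : ℚ) = (Nat.card G : ℚ) := by exact_mod_cast hcard1
    have h2 : (Nat.card (Subgroup.center G) : ℚ) * (i : ℚ) = (Nat.card G : ℚ) := by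
      exact_mod_cast hZindex
    have h3 : (Nat.card (Subgroup.center G) : ℚ) * (7 * (i : ℚ)) ≤
        (Nat.card (Subgroup.center G) : ℚ) * 18 := by
      rw [← h2] at hsum h1
      nlinarith
    have h4 := le_of_mul_le_mul_left h3 hZpos
    exact_mod_cast h4
  have hi3 : i = 2 := by omega
  have hcardQ : Nat.card (G ⧸ Subgroup.center G) = 2 := hi3
  haveI : IsCyclic (G ⧸ Subgroup.center G) := isCyclic_of_prime_card hcardQ
  have hcomm := commutative_of_cyclic_center_quotient (QuotientGroup.mk' (Subgroup.center G))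
    (by rw [QuotientGroup.ker_mk'])
  apply hx₀
  rw [Subgroup.mem_center_iff]
  intro g
  exact hcomm g x₀

end Cfsg.Agent.Lib.MaxCent
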