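import Mathlib
import Cfsg.Agent.Lib.MaxCent.AbChief3
import Cfsg.Agent.Lib.MaxCent.Count

set_option autoImplicit false
open Cfsg

/-!
# The nonabelian chief factor does not occur
-/

namespace Cfsg.Agent.Lib.MaxCent

open scoped Pointwise

variable {G : Type*} [Group G] [Finite G]

local notation "C" x => Subgroup.centralizer ({x} : Set G)

section
variable {N R : Subgroup G} [hN : N.Normal] (c : Chief N R)
  (hnab : ¬ ∀ a ∈ R, ∀ b ∈ R, a * b * a⁻¹ * b⁻¹ ∈ Zn N)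

include c hnab

/-- `Z(R) = Z(N)`. -/
theorem Chief.center_eq : Subgroup.centralizer (R : Set G) ⊓ R = Zn N := by
  haveI := c.hRn
  have hZrn : (Subgroup.centralizer (R : Set G) ⊓ R).Normal := inferInstance
  have hZZ : Zn N ≤ Subgroup.centralizer (R : Set G) ⊓ R := by
    intro z hz
    refine Subgroup.mem_inf.mpr ⟨?_, c.hZR hz⟩
    rw [Subgroup.mem_centralizer_iff]
    intro r hr
    exact (mem_Zn.mp hz).2 r (c.hRN hr)
  rcases c.hmin _ hZrn hZZ inf_le_right with he | he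
  · exact he
  · exfalso
    apply hnab
    intro a ha b hb
    have h1 : a ∈ Subgroup.centralizer (R : Set G) ⊓ R := by rw [he]; exact ha
    have h2 : b * a = a * b := (Subgroup.mem_centralizer_iff.mp h1.1) b hb
    have e : a * b * a⁻¹ * b⁻¹ = 1 := by
      rw [← h2]; group
    rw [e]; exact Subgroup.one_mem _

theorem Chief.not_le_C' {x : G} (hx : x ∈ R) (hxZ : x ∉ Zn N) : ¬ R ≤ (C x) := by
  intro hle
  apply hxZ
  rw [← c.center_eq hnab]
  refine Subgroup.mem_inf.mpr ⟨?_, hx⟩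
  rw [Subgroup.mem_centralizer_iff]
  intro r hr
  exact mem_C'.mp (hle hr)

/-- All elements of `R∖Z(N)` are of type II. -/
theorem Chief.not_normal {x : G} (hx : x ∈ R) (hxZ : x ∉ Zn N) : ¬ (Lx N x).Normal := by
  intro hL
  haveI := c.hRn
  obtain ⟨X, hXn, hXN, hxX, hXab⟩ := exists_abelian_normal (c.hRN hx) hL
  haveI := hXn
  set Z := Zn N with hZ
  set T := (X ⊓ R) ⊔ Z with hT
  have hTn : T.Normal := inferInstance
  have hZT : Z ≤ T := le_sup_right
  have hTR : T ≤ R := sup_le inf_le_right c.hZR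
  rcases c.hmin T hTn hZT hTR with he | he
  · apply hxZ
    rw [hZ, ← he]
    exact Subgroup.mem_sup_left ⟨hxX, hx⟩
  · apply hnab
    set π := QuotientGroup.mk' Z with hπ
    have hker : ∀ g : G, π g = 1 ↔ g ∈ Z := by
      intro g
      rw [← MonoidHom.mem_ker, hπ, QuotientGroup.ker_mk']
    have hdec : ∀ a ∈ R, ∃ u ∈ X ⊓ R, π a = π u := by
      intro a ha
      rw [← he] at ha
      have ha' : a ∈ (((X ⊓ R) ⊔ Z : Subgroup G) : Set G) := ha
      rw [Subgroup.mul_normal] at ha'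
      obtain ⟨u, hu, z, hz, e⟩ := Set.mem_mul.mp ha'
      refine ⟨u, hu, ?_⟩
      rw [← e, map_mul, (hker z).mpr hz, mul_one]
    intro a ha b hb
    obtain ⟨u, hu, e1⟩ := hdec a ha
    obtain ⟨v, hv, e2⟩ := hdec b hb
    rw [← hker]
    simp only [map_mul, map_inv]
    rw [e1, e2, ← map_mul, hXab u hu.1 v hv.1, map_mul]
    group

/-- `C_R(x)` is self-normalizing in `R`. -/
theorem Chief.self_norm_R {x : G} (hx : x ∈ R) (hxZ : x ∉ Zn N) {y : G} (hy : y ∈ R)
    (hyn : ∀ d ∈ (C x) ⊓ R, y * d * y⁻¹ ∈ (C x) ⊓ R) : y ∈ (C x) := by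
  haveI := c.hRn
  by_contra hyC
  set D := (C x) ⊓ R with hD
  have hCn : (C x) ≤ Subgroup.normalizer (D : Set G) := by
    intro m hm
    apply mem_normalizer_of
    intro d hd
    refine ⟨(C x).mul_mem ((C x).mul_mem hm hd.1) ((C x).inv_mem hm), ?_⟩
    exact c.hRn.conj_mem d hd.2 m
  have hlt : (C x) < Subgroup.normalizer (D : Set G) :=
    lt_of_le_of_ne hCn (fun he => hyC (by rw [he]; exact mem_normalizer_of hyn))
  have htop := (coatom c.hmax (c.hRN hx) hxZ).2 _ hlt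
  have hDn : D.Normal := Subgroup.normalizer_eq_top_iff.mp htop
  have hZD : Zn N ≤ D := fun z hz =>
    ⟨mem_C'.mpr ((mem_Zn.mp hz).2 x (c.hRN hx)).symm, c.hZR hz⟩
  rcases c.hmin D hDn hZD inf_le_right with he | he
  · apply hxZ
    rw [← he]
    exact ⟨mem_C'.mpr rfl, hx⟩
  · apply c.not_le_C' hnab hx hxZ
    rw [← he]
    exact inf_le_left

/-- Abelian `C_R(v)`: it is the `C_R` of each of its noncentral elements. -/
theorem Chief.Cr_eq {v : G} (hv : v ∈ R) (hvZ : v ∉ Zn N)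
    (hab : ∀ a ∈ (C v) ⊓ R, ∀ b ∈ (C v) ⊓ R, a * b = b * a) {z : G} (hz : z ∈ (C v) ⊓ R)
    (hzZ : z ∉ Zn N) : (C z) ⊓ R = (C v) ⊓ R := by
  have hle : (C v) ⊓ R ≤ (C z) ⊓ R := by
    intro a ha
    exact ⟨mem_C'.mpr (hab a ha z hz), ha.2⟩
  by_contra hne
  have hlt : (C v) ⊓ R < (C z) ⊓ R := lt_of_le_of_ne hle (Ne.symm hne)
  have hzN := c.hRN hz.2
  obtain ⟨z', hz', hz'Z, hCz, t, ht, i, hi⟩ := exists_primary' c.hmax hzN hzZ
  have hz'N : z' ∈ N := (Subgroup.zpowers_le.mpr hzN) hz'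
  by_cases hLab : ∀ a ∈ Lx N z', ∀ b ∈ Lx N z', a * b = b * a
  · apply hlt.not_ge
    intro w hw
    refine ⟨?_, hw.2⟩
    have hw1 : w ∈ Lx N z' := ⟨by rw [← hCz]; exact hw.1, c.hRN hw.2⟩
    have hv1 : v ∈ Lx N z' := ⟨by rw [← hCz]; exact mem_C_comm'.mp hz.1, c.hRN hv⟩
    exact mem_C'.mpr (hLab w hw1 v hv1)
  · have hp := Lx_prime_power_part c.hmax hz'N hz'Z hLab ht hi
    haveI : Fact t.Prime := ⟨ht⟩
    obtain ⟨y, hyA, hyD, hyn⟩ := exists_normalizing t hlt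
      (Z := Zn N) (fun z0 hz0 a ha => (mem_Zn.mp hz0).2 a (c.hRN ha.2)) (by
        intro a ha
        exact hp a ⟨by rw [← hCz]; exact ha.1, c.hRN ha.2⟩)
    exact hyD ⟨c.self_norm_R hnab hv hvZ hyA.2 hyn, hyA.2⟩

/-- Abelian `C_R` do not occur. -/
theorem Chief.false_of_abelian {x : G} (hx : x ∈ R) (hxZ : x ∉ Zn N)
    (hab : ∀ a ∈ (C x) ⊓ R, ∀ b ∈ (C x) ⊓ R, a * b = b * a) : False := by
  classical
  haveI := c.hRn
  set v := x with hvdef
  have hv := hx
  have hvZ := hxZ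
  set D := (C v) ⊓ R with hD
  set DR := D.subgroupOf R with hDR
  set ZR := (Zn N).subgroupOf R with hZR
  haveI : ZR.Normal := inferInstance
  have hZD' : Zn N ≤ D := fun z hz =>
    ⟨mem_C'.mpr ((mem_Zn.mp hz).2 v (c.hRN hv)).symm, c.hZR hz⟩
  have hZD : ZR ≤ DR := fun z hz => Subgroup.mem_subgroupOf.mpr (hZD' (Subgroup.mem_subgroupOf.mp hz))
  have hvD : v ∈ D := ⟨mem_C'.mpr rfl, hv⟩
  have hDZ : ¬ DR ≤ ZR := by
    intro hle
    have h1 : (⟨v, hv⟩ : ↥R) ∈ DR := Subgroup.mem_subgroupOf.mpr hvD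
    exact hvZ (Subgroup.mem_subgroupOf.mp (hle h1))
  have hDtop : DR ≠ ⊤ := by
    intro he
    apply c.not_le_C' hnab hv hvZ
    intro r hr
    have h1 : (⟨r, hr⟩ : ↥R) ∈ DR := by rw [he]; trivial
    exact (Subgroup.mem_subgroupOf.mp h1).1
  have hF : ∀ g : ↥R, g ∉ DR → DR ⊓ (MulAut.conj g • DR) ≤ ZR := by
    intro g hg y hy
    obtain ⟨hy1, hy2⟩ := Subgroup.mem_inf.mp hy
    rw [Cfsg.Agent.Lib.Solvable.FrobQuot.mem_conj_smul_iff'] at hy2
    by_contra hyZ
    have hyZ' : (y : G) ∉ Zn N := fun h => hyZ (Subgroup.mem_subgroupOf.mpr h)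
    have hy1' : (y : G) ∈ D := Subgroup.mem_subgroupOf.mp hy1
    have hy2' : (g : G)⁻¹ * y * g ∈ D := by
      have := Subgroup.mem_subgroupOf.mp hy2
      simpa using this
    set v' := (g : G) * v * (g : G)⁻¹ with hv'
    have hv'R : v' ∈ R := c.hRn.conj_mem v hv g
    have hv'Z : v' ∉ Zn N := conj_notMem_Zn hvZ g
    have hmem : ∀ a : G, a ∈ (C v') ⊓ R → (g : G)⁻¹ * a * g ∈ D := by
      rintro a ⟨ha1, ha2⟩
      refine ⟨mem_C'.mpr ?_, ?_⟩
      · have h1 := mem_C'.mp ha1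
        calc (g : G)⁻¹ * a * g * v = (g : G)⁻¹ * (a * v') * g := by rw [hv']; group
          _ = (g : G)⁻¹ * (v' * a) * g := by rw [h1]
          _ = v * ((g : G)⁻¹ * a * g) := by rw [hv']; group
      · have := c.hRn.conj_mem a ha2 (g : G)⁻¹
        simpa using this
    have hab' : ∀ a ∈ (C v') ⊓ R, ∀ b ∈ (C v') ⊓ R, a * b = b * a := by
      intro a ha b hb
      have h1 := hab _ (hmem a ha) _ (hmem b hb)
      have h2 := congrArg (fun w => (g : G) * w * (g : G)⁻¹) h1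
      simpa [mul_assoc] using h2
    have hyv' : (y : G) ∈ (C v') ⊓ R := by
      refine ⟨mem_C'.mpr ?_, y.2⟩
      have h1 := mem_C'.mp hy2'.1
      calc (y : G) * v' = (g : G) * ((g : G)⁻¹ * y * g * v) * (g : G)⁻¹ := by rw [hv']; group
        _ = (g : G) * (v * ((g : G)⁻¹ * y * g)) * (g : G)⁻¹ := by rw [h1]
        _ = v' * y := by rw [hv']; group
    have e1 := c.Cr_eq hnab hv hvZ hab hy1' hyZ'
    have e2 := c.Cr_eq hnab hv'R hv'Z hab' hyv' hyZ'
    have e3 : D = (C v') ⊓ R := e1.symm.trans e2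
    apply hg
    apply Subgroup.mem_subgroupOf.mpr
    refine ⟨?_, g.2⟩
    apply c.self_norm_R hnab hv hvZ g.2
    intro d hd
    rw [← hD, e3]
    refine ⟨mem_C'.mpr ?_, c.hRn.conj_mem d hd.2 g⟩
    have h1 := mem_C'.mp hd.1
    calc (g : G) * d * (g : G)⁻¹ * v' = (g : G) * (d * v) * (g : G)⁻¹ := by rw [hv']; group
      _ = (g : G) * (v * d) * (g : G)⁻¹ := by rw [h1]
      _ = v' * ((g : G) * d * (g : G)⁻¹) := by rw [hv']; group
  obtain ⟨K, hKn, hZK, hKD, hKD2, hKk, hKout⟩ :=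
    Cfsg.Agent.Lib.Solvable.FrobQuot.exists_kernel' DR ZR hZD hDZ hDtop hF
  set KG := K.map R.subtype with hKG
  have hKGn : KG.Normal := by
    constructor
    rintro w ⟨k, hk, rfl⟩ g
    by_contra hw
    simp only [Subgroup.coe_subtype] at hw
    have hwR : g * (k : G) * g⁻¹ ∈ R := c.hRn.conj_mem _ k.2 g
    have hwK : (⟨g * (k : G) * g⁻¹, hwR⟩ : ↥R) ∉ K := fun h => hw ⟨_, h, rfl⟩
    obtain ⟨h, hh⟩ := hKout _ hwK
    rw [Cfsg.Agent.Lib.Solvable.FrobQuot.mem_conj_smul_iff'] at hh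
    have hh' : (h : G)⁻¹ * (g * (k : G) * g⁻¹) * h ∈ D := by
      have := Subgroup.mem_subgroupOf.mp hh
      simpa using this
    obtain ⟨m, hm, t, ht, e⟩ := G_factor c.hmax (c.hRN hv) hvZ (c.not_le_C' hnab hv hvZ)
      ((h : G)⁻¹ * g)
    have h1 : t * (k : G) * t⁻¹ ∈ D := by
      have e2 : t * (k : G) * t⁻¹ = m⁻¹ * ((h : G)⁻¹ * (g * (k : G) * g⁻¹) * h) * m := by
        have e3 : (h : G)⁻¹ * (g * (k : G) * g⁻¹) * h = ((h : G)⁻¹ * g) * k * ((h : G)⁻¹ * g)⁻¹ := by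
          group
        rw [e3, e]; group
      rw [e2]
      refine ⟨?_, ?_⟩
      · exact (C v).mul_mem ((C v).mul_mem ((C v).inv_mem hm) hh'.1) hm
      · have := c.hRn.conj_mem _ hh'.2 m⁻¹
        simpa using this
    by_cases hkZ : (k : ↥R) ∈ ZR
    · apply hw
      have h2 : g * (k : G) * g⁻¹ ∈ Zn N :=
        (Zn_normal N).conj_mem _ (Subgroup.mem_subgroupOf.mp hkZ) g
      exact ⟨⟨_, hwR⟩, hZK (Subgroup.mem_subgroupOf.mpr h2), rfl⟩
    · apply hKk k hk hkZ ⟨t⁻¹, R.inv_mem ht⟩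
      rw [Cfsg.Agent.Lib.Solvable.FrobQuot.mem_conj_smul_iff']
      apply Subgroup.mem_subgroupOf.mpr
      simpa using h1
  have hZKG : Zn N ≤ KG := fun z hz =>
    ⟨⟨z, c.hZR hz⟩, hZK (Subgroup.mem_subgroupOf.mpr hz), rfl⟩
  have hKGR : KG ≤ R := by
    rintro w ⟨k, -, rfl⟩
    exact k.2
  rcases c.hmin KG hKGn hZKG hKGR with he | he
  · apply hDtop
    rw [← hKD2]
    refine (sup_eq_right.mpr ?_).symm
    intro k hk
    have h1 : (k : G) ∈ KG := ⟨k, hk, rfl⟩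
    rw [he] at h1
    exact hZD (Subgroup.mem_subgroupOf.mpr h1)
  · apply hDZ
    rw [← hKD]
    intro d hd
    refine ⟨?_, hd⟩
    have h1 : (d : G) ∈ KG := by rw [he]; exact d.2
    obtain ⟨k, hk, hkd⟩ := h1
    have : k = d := Subtype.ext hkd
    rwa [← this]

/-- Counting excludes the remaining case. -/
theorem Chief.false_of_all_nonabelian
    (hall : ∀ x ∈ R, x ∉ Zn N → ¬ ∀ a ∈ (C x) ⊓ R, ∀ b ∈ (C x) ⊓ R, a * b = b * a) : False := by
  classical
  haveI := c.hRn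
  have hcen : ∀ a : ↥R, a ∈ Subgroup.center ↥R ↔ (a : G) ∈ Zn N := by
    intro a
    rw [← c.center_eq hnab, Subgroup.mem_center_iff]
    constructor
    · intro h
      refine Subgroup.mem_inf.mpr ⟨?_, a.2⟩
      rw [Subgroup.mem_centralizer_iff]
      intro r hr
      exact congrArg Subtype.val (h ⟨r, hr⟩)
    · intro h g
      exact Subtype.ext ((Subgroup.mem_centralizer_iff.mp h.1) g g.2)
  have hcent : ∀ v w : ↥R, w ∈ Subgroup.centralizer ({v} : Set ↥R) ↔ (w : G) ∈ (C (v : G)) := by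
    intro v w
    rw [mem_C', Subgroup.mem_centralizer_singleton_iff]
    constructor
    · intro h
      exact congrArg Subtype.val h
    · intro h
      exact Subtype.ext h
  have hnab' : ∀ x : ↥R, x ∉ Subgroup.center ↥R → ¬ ∀ a ∈ Subgroup.centralizer ({x} : Set ↥R),
      ∀ b ∈ Subgroup.centralizer ({x} : Set ↥R), a * b = b * a := by
    intro x hx habx
    apply hall x x.2 (fun h => hx ((hcen x).mpr h))
    intro a ha b hb
    have h1 := habx ⟨a, ha.2⟩ ((hcent x _).mpr ha.1) ⟨b, hb.2⟩ ((hcent x _).mpr hb.1)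
    exact congrArg Subtype.val h1
  have hh : CountHyp ↥R := by
    refine ⟨hnab', ?_, ?_⟩
    · intro x hx
      have hxZ : (x : G) ∉ Zn N := fun h => hx ((hcen x).mpr h)
      obtain ⟨y, hy, hyZ, hxy, t, ht, i, hi⟩ := exists_primary' c.hmax (c.hRN x.2) hxZ
      obtain ⟨m, rfl⟩ := Subgroup.mem_zpowers_iff.mp hy
      refine ⟨x ^ m, Subgroup.zpow_mem_zpowers x m, fun h => hyZ ?_, ?_, t, ht, i, ?_⟩
      · have := (hcen _).mp h
        simpa using this
      · ext w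
        rw [hcent, hcent]
        simp only [Subgroup.coe_zpow]
        rw [hxy]
      · apply Subtype.ext
        simpa using hi
    · intro v hv r k _ hvk
      have hvZ : (v : G) ∉ Zn N := fun h => hv ((hcen v).mpr h)
      have hvk' : (v : G) ^ (r ^ k) = 1 := by
        have := congrArg Subtype.val hvk
        simpa using this
      have hLab : ¬ ∀ a ∈ Lx N (v : G), ∀ b ∈ Lx N (v : G), a * b = b * a := by
        intro h1
        apply hall v v.2 hvZ
        intro a ha b hb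
        exact h1 a ⟨ha.1, c.hRN ha.2⟩ b ⟨hb.1, c.hRN hb.2⟩
      have hM := Lx_prime_power_part c.hmax (c.hRN v.2) hvZ hLab (Fact.out) hvk'
      set π := QuotientGroup.mk' (Subgroup.center ↥R) with hπ
      have hker : ∀ g : ↥R, π g = 1 ↔ g ∈ Subgroup.center ↥R := by
        intro g
        rw [← MonoidHom.mem_ker, hπ, QuotientGroup.ker_mk']
      set H := Subgroup.centralizer ({v} : Set ↥R) with hH
      have hP : IsPGroup r (H.map π) := by
        rintro ⟨y, g, hg, rfl⟩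
        obtain ⟨j, hj⟩ := hM g ⟨(hcent v g).mp hg, c.hRN g.2⟩
        refine ⟨j, ?_⟩
        apply Subtype.ext
        simp only [Subgroup.coe_pow, OneMemClass.coe_one]
        rw [← map_pow, hker, hcen]
        simpa using hj
      obtain ⟨S, hS⟩ := hP.exists_le_sylow
      refine ⟨S, ?_⟩
      have hle : H ≤ (S : Subgroup (↥R ⧸ Subgroup.center ↥R)).comap π := by
        intro g hg
        exact hS ⟨g, hg, rfl⟩
      by_contra hne
      have hlt : H < (S : Subgroup (↥R ⧸ Subgroup.center ↥R)).comap π :=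
        lt_of_le_of_ne hle (Ne.symm hne)
      obtain ⟨y, hyA, hyH, hyn⟩ := exists_normalizing r hlt (Z := Subgroup.center ↥R)
        (fun z hz a _ => ((Subgroup.mem_center_iff.mp hz) a)) (by
          intro a ha
          obtain ⟨j, hj⟩ := S.isPGroup' ⟨_, ha⟩
          refine ⟨j, ?_⟩
          rw [← hker, map_pow]
          have := congrArg Subtype.val hj
          simpa using this)
      apply hyH
      rw [hcent]
      apply c.self_norm_R hnab v.2 hvZ y.2
      intro d hd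
      have h1 : (⟨d, hd.2⟩ : ↥R) ∈ H := (hcent v _).mpr hd.1
      have h2 := hyn _ h1
      rw [hcent] at h2
      refine ⟨by simpa using h2, c.hRn.conj_mem d hd.2 y⟩
  obtain ⟨x, hxR, hxZ⟩ := c.hne
  exact count_false hh (x₀ := ⟨x, hxR⟩) (fun h => hxZ ((hcen _).mp h))

/-- The nonabelian chief factor does not occur. -/
theorem Chief.false_of_nonabelian : False := by
  by_cases hex : ∃ x ∈ R, x ∉ Zn N ∧ ∀ a ∈ (C x) ⊓ R, ∀ b ∈ (C x) ⊓ R, a * b = b * a
  · obtain ⟨x, hx, hxZ, hab⟩ := hex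
    exact c.false_of_abelian hnab hx hxZ hab
  · push Not at hex
    refine c.false_of_all_nonabelian hnab ?_
    intro x hx hxZ hab
    obtain ⟨a, ha, b, hb, hne⟩ := hex x hx hxZ
    exact hne (hab a ha b hb)

end

/-- The main theorem, in terms of the lemmas above. -/
theorem main {N : Subgroup G} [hN : N.Normal] (h : HMax N) :
    (∃ p : ℕ, p.Prime ∧ Cfsg.IsElementaryAbelian p (⊤ : Subgroup (↥N ⧸ Subgroup.center ↥N))) ∨
    (∃ (Q K : Subgroup (↥N ⧸ Subgroup.center ↥N)) (p : ℕ), p.Prime ∧ Cfsg.IsFrobeniusComplement Q ∧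
      (Nat.card ↥Q).Prime ∧ K.Normal ∧ (K : Set (↥N ⧸ Subgroup.center ↥N)) = Cfsg.frobeniusKernel Q ∧
      Cfsg.IsElementaryAbelian p K) := by
  by_cases hZ2 : ∃ x ∈ N, x ∉ Zn N ∧ ∀ a ∈ N, a * x * a⁻¹ * x⁻¹ ∈ Zn N
  · obtain ⟨x, hx, hxZ, hxc⟩ := hZ2
    exact Or.inl (alt1_of_Z2 h hx hxZ hxc)
  push Not at hZ2
  by_cases hNZ : N ≤ Zn N
  · left
    apply alt1 h
    intro a ha b hb
    have h1 : a * b = b * a := (mem_Zn.mp (hNZ hb)).2 a ha
    rw [h1]
    have e : b * a * a⁻¹ * b⁻¹ = 1 := by group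
    rw [e]; exact Subgroup.one_mem _
  -- a minimal normal subgroup above `Z(N)`
  let S : Set (Subgroup G) := {T | T.Normal ∧ Zn N < T ∧ T ≤ N}
  have hSne : S.Nonempty := ⟨N, hN, lt_of_le_of_ne (Zn_le N) (fun he => hNZ he.ge), le_rfl⟩
  obtain ⟨R, ⟨hRn, hZR, hRN⟩, hmin⟩ := (wellFounded_lt (α := Subgroup G)).has_min S hSne
  have c : Chief N R := by
    refine ⟨h, hRn, hZR.le, hRN, ?_, ?_, ?_⟩
    · obtain ⟨x, hx, hxZ⟩ := SetLike.exists_of_lt hZR
      exact ⟨x, hx, hxZ⟩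
    · intro T hTn hZT hTR
      by_cases he : T = Zn N
      · exact Or.inl he
      · right
        by_contra hne
        exact hmin T ⟨hTn, lt_of_le_of_ne hZT (Ne.symm he), hTR.trans hRN⟩
          (lt_of_le_of_ne hTR hne)
    · intro x hx hxc
      by_contra hxZ
      obtain ⟨a, ha, hne⟩ := hZ2 x hx hxZ
      exact hne (hxc a ha)
  by_cases hnab : ∀ a ∈ R, ∀ b ∈ R, a * b * a⁻¹ * b⁻¹ ∈ Zn N
  · have hab := c.abelian hnab
    obtain ⟨p, hp, hRp⟩ := c.exists_prime hab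
    exact Or.inr (AbChief.alt2 (p := p) { c with hab := hab, hp := hp, hRp := hRp })
  · exact (c.false_of_nonabelian hnab).elim

end Cfsg.Agent.Lib.MaxCent
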